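import Cfsg.Agent.Lib.Spor.J1Type.Setup
import Mathlib.GroupTheory.GroupAction.Quotient

/-!
# Groups of Janko's first type: one class of involutions, the element of order seven
-/

set_option autoImplicit false
set_option maxRecDepth 10000

namespace CfsgLib.Spor.J1Type

open Subgroup CfsgLib.Invol.JTwo.Icosa
open scoped IsMulCommutative

variable {G : Type*} [Group G] {ι : M →* G}

namespace Cent

variable (hc : Cent ι)
include hc

theorem conj_b (i : Fin 8) : ι (mA b0) * sv ι i * (ι (mA b0))⁻¹ = sv ι (bOp i) := by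
  rw [sv, sv, ← map_inv, ← map_mul, ← map_mul, vM_conj]

theorem b_mem_normalizer [Finite G] : ι (mA b0) ∈ normalizer (four ι : Set G) :=
  hc.mem_normalizer fun i => ⟨_, hc.conj_b i⟩

theorem not_comm : ι (mA a0) * ι (mA b0) ≠ ι (mA b0) * ι (mA a0) := fun h => by
  rw [← map_mul, ← map_mul, ← map_mul, ← map_mul] at h
  exact absurd (mA_injective (hc.inj h)) (by decide +kernel)

/-- The involution is not isolated in the Sylow subgroup. -/
theorem not_isolated [Finite G] [IsSimpleGroup G] :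
    ∃ n ∈ normalizer (four ι : Set G), n * ι mT * n⁻¹ ≠ ι mT := by
  haveI : Fact (Nat.Prime 2) := ⟨Nat.prime_two⟩
  by_contra hno
  push Not at hno
  obtain ⟨S, hS⟩ := hc.exists_sylow
  haveI : IsMulCommutative (S : Subgroup G) := hS ▸ inferInstance
  have htS : ι mT ∈ (S : Subgroup G) := hS ▸ ⟨1, by rw [sv, vM_vals.2.1]⟩
  set f : G →* (S : Subgroup G) := MonoidHom.transfer (MonoidHom.id _) with hf
  rcases (inferInstance : IsSimpleGroup G).eq_bot_or_eq_top_of_normal f.ker inferInstance with h | h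
  · refine hc.not_comm ((MonoidHom.ker_eq_bot_iff f).1 h ?_)
    rw [map_mul, map_mul, mul_comm]
  · have h1 : f (ι mT) = 1 := MonoidHom.mem_ker.1 (h ▸ mem_top _)
    have key : ∀ (k : ℕ) (g₀ : G), g₀⁻¹ * ι mT ^ k * g₀ ∈ (S : Subgroup G) →
        g₀⁻¹ * ι mT ^ k * g₀ = ι mT ^ k := by
      intro k g₀ hk
      obtain ⟨n, hn, e⟩ := S.conj_eq_normalizer_conj_of_mem _ g₀ (pow_mem htS k) hk
      rw [e]
      have := hno n⁻¹ (by
        refine inv_mem ?_
        rw [← hS]
        exact hn)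
      rw [inv_inv] at this
      have e2 := congrArg (fun x => x ^ k) this
      have e3 : n⁻¹ * ι mT * n⁻¹⁻¹ = n⁻¹ * ι mT * n := by rw [inv_inv]
      rw [← e3, conj_pow, inv_inv] at e2
      exact e2
    rw [hf, MonoidHom.transfer_eq_pow _ _ key] at h1
    have h2 : ι mT ^ (S : Subgroup G).index = 1 := congrArg Subtype.val h1
    have hodd : (S : Subgroup G).index % 2 = 1 := by
      by_contra hev
      refine hc.sixteen ?_
      rw [← (S : Subgroup G).card_mul_index, hS, hc.card_four]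
      have h8 : 2 ∣ (four ι).index := hS ▸ Nat.dvd_of_mod_eq_zero (show (S : Subgroup G).index % 2 = 0 by omega)
      exact Nat.mul_dvd_mul_left 8 h8
    rw [← pow_mod_orderOf, hc.orderOf_t, hodd, pow_one] at h2
    exact hc.t_ne h2

/-- The normaliser acts transitively on the involutions of the Sylow subgroup. -/
theorem transitive [Finite G] [IsSimpleGroup G] :
    (∀ i : Fin 8, i ≠ 0 → ∃ n ∈ normalizer (four ι : Set G), n * ι mT * n⁻¹ = sv ι i) ∧
      Nat.card (normalizer (four ι : Set G)) = 168 := by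
  classical
  set N := normalizer (four ι : Set G) with hN
  letI : MulAction N G := MulAction.compHom G (ConjAct.toConjAct.toMonoidHom.comp N.subtype)
  have hsmul : ∀ (n : N) (x : G), n • x = (n : G) * x * (n : G)⁻¹ := fun n x => ConjAct.toConjAct_smul _ _
  let P : Fin 8 → Bool := fun i => decide (∃ n ∈ N, n * ι mT * n⁻¹ = sv ι i)
  have ht1 : ι mT = sv ι 1 := by rw [sv, vM_vals.2.1]
  have horb : Nat.card (MulAction.orbit N (ι mT)) = Nat.card {i // P i = true} := by
    refine (Nat.card_congr (Equiv.ofBijective (fun i : {i // P i = true} =>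
      (⟨sv ι i.1, ?_⟩ : MulAction.orbit N (ι mT))) ⟨fun a b h => ?_, fun x => ?_⟩)).symm
    · obtain ⟨n, hn, e⟩ := of_decide_eq_true i.2
      exact ⟨⟨n, hn⟩, by rw [← e]; exact hsmul _ _⟩
    · exact Subtype.ext (hc.sv_injective (congrArg Subtype.val h))
    · obtain ⟨n, hn⟩ := x.2
      change n • ι mT = _ at hn
      rw [hsmul] at hn
      obtain ⟨j, hj⟩ := hc.conj_sv n.2 1
      rw [← ht1, hn] at hj
      exact ⟨⟨j, decide_eq_true ⟨n, n.2, hn.trans hj⟩⟩, Subtype.ext hj.symm⟩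
  have hstab : Nat.card (MulAction.stabilizer N (ι mT)) = 24 := by
    rw [← hc.card_normalizer_inf]
    refine Nat.card_congr ⟨fun n => ⟨n.1, n.1.2, ?_⟩, fun g => ⟨⟨g.1, g.2.1⟩, ?_⟩, fun _ => rfl, fun _ => rfl⟩
    · have h := n.2
      rw [MulAction.mem_stabilizer_iff, hsmul] at h
      exact mul_inv_eq_iff_eq_mul.1 h
    · rw [MulAction.mem_stabilizer_iff, hsmul]
      exact mul_inv_eq_iff_eq_mul.2 g.2.2
  have hcard : 24 * Nat.card {i // P i = true} = Nat.card N := by
    rw [← horb, ← hstab, Nat.card_coe_set_eq, ← MulAction.index_stabilizer, Subgroup.card_mul_index]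
  have h0 : P 0 = false := by
    refine decide_eq_false ?_
    rintro ⟨n, -, e⟩
    rw [sv_zero, conj_eq_one_iff] at e
    exact hc.t_ne e
  have h1 : P 1 = true := decide_eq_true ⟨1, one_mem _, by rw [← ht1]; group⟩
  have hb : ∀ i, P i = true → P (bOp i) = true := by
    intro i hi
    obtain ⟨n, hn, e⟩ := of_decide_eq_true hi
    refine decide_eq_true ⟨ι (mA b0) * n, mul_mem hc.b_mem_normalizer hn, ?_⟩
    rw [← hc.conj_b, ← e]
    group
  have hsub : ¬ 2 ∣ Nat.card {i // P i = true} := fun h => by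
    refine hc.sixteen (dvd_trans ?_ ((Nat.mul_dvd_mul_left 24 h).trans (hcard ▸ card_subgroup_dvd_card N)))
    norm_num
  have key : ∀ f : Fin 8 → Bool, f 0 = false → f 1 = true → (∀ i, f i = true → f (bOp i) = true) →
      ¬ 2 ∣ Fintype.card {i // f i = true} →
      ((∀ i, f i = true → i = 1) ∨ ((∀ i, i ≠ 0 → f i = true) ∧ Fintype.card {i // f i = true} = 7)) := by
    decide +kernel
  rw [Nat.card_eq_fintype_card] at hsub hcard
  rcases key P h0 h1 hb hsub with h | ⟨h, h7⟩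
  · exfalso
    obtain ⟨n, hn, hne⟩ := hc.not_isolated
    obtain ⟨j, hj⟩ := hc.conj_sv hn 1
    rw [← ht1] at hj
    rw [h j (decide_eq_true ⟨n, hn, hj⟩), ← ht1] at hj
    exact hne hj
  · exact ⟨fun i hi => of_decide_eq_true (h i hi), by rw [← hcard, h7]⟩

/-- All involutions are conjugate. -/
theorem isConj_t [Finite G] [IsSimpleGroup G] {g : G} (hg : g * g = 1) (hg1 : g ≠ 1) : IsConj (ι mT) g := by
  haveI : Fact (Nat.Prime 2) := ⟨Nat.prime_two⟩
  obtain ⟨S, hS⟩ := hc.exists_sylow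
  have hz : IsPGroup 2 (zpowers g) :=
    IsPGroup.of_card (n := 1) (by rw [Nat.card_zpowers, pow_one, orderOf_eq_prime (by rw [sq]; exact hg) hg1])
  obtain ⟨Q, hQ⟩ := hz.exists_le_sylow
  obtain ⟨k, hk⟩ := MulAction.exists_smul_eq G S Q
  have hmem : g ∈ (k • S : Sylow 2 G).toSubgroup := hk ▸ hQ (mem_zpowers g)
  rw [Sylow.smul_def, Sylow.pointwise_smul_def, Subgroup.mem_pointwise_smul_iff_inv_smul_mem] at hmem
  have hmem' : k⁻¹ * g * k ∈ four ι := by
    rw [← hS]
    simpa [MulAut.smul_def] using hmem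
  obtain ⟨i, hi⟩ := hmem'
  have hi0 : i ≠ 0 := by
    rintro rfl
    rw [sv_zero] at hi
    apply hg1
    calc g = k * (k⁻¹ * g * k) * k⁻¹ := by group
      _ = 1 := by rw [← hi]; group
  obtain ⟨n, -, e⟩ := hc.transitive.1 i hi0
  refine isConj_iff.2 ⟨k * n, ?_⟩
  calc k * n * ι mT * (k * n)⁻¹ = k * (n * ι mT * n⁻¹) * k⁻¹ := by group
    _ = g := by rw [e, hi]; group

end Cent

/-- An element of order seven permuting the Sylow subgroup in the standard way. -/
structure Frame (ι : M →* G) (h : G) : Prop extends Cent ι where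
  seven : h ^ 7 = 1
  hb : ι (mA b0) * h * (ι (mA b0))⁻¹ = h ^ 2
  ht : h * ι mT * h⁻¹ = ι (mA rA)
  hr : h * ι (mA rA) * h⁻¹ = ι (mA sA)
  hs : h * ι (mA sA) * h⁻¹ = ι mT * ι (mA rA)

theorem vdec : ∀ i : Fin 8, i = vAdd (if i.1 % 2 = 1 then 1 else 0)
    (vAdd (if i.1 / 2 % 2 = 1 then 2 else 0) (if i.1 / 4 = 1 then 4 else 0)) := by decide +kernel

theorem exists_seven [Finite G] [IsSimpleGroup G] (hc : Cent ι) :
    ∃ (h : G) (k : ℕ), h ∈ normalizer (four ι : Set G) ∧ orderOf h = 7 ∧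
      ι (mA b0) * h * (ι (mA b0))⁻¹ = h ^ k := by
  classical
  set N := normalizer (four ι : Set G) with hN
  haveI : Fact (Nat.Prime 7) := ⟨by norm_num⟩
  haveI : Fact (Nat.Prime 3) := ⟨by norm_num⟩
  have hcard := hc.transitive.2
  let β : N := ⟨ι (mA b0), hc.b_mem_normalizer⟩
  have hβ : orderOf β = 3 := by
    refine orderOf_eq_prime (Subtype.ext ?_) fun e => ?_
    · show ι (mA b0) ^ 3 = 1
      rw [← map_pow, ← map_pow, pow_three', gens_rel.2.1, map_one, map_one]
    · have e' : ι (mA b0) = 1 := congrArg Subtype.val e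
      exact gens_rel.2.2.2.2 (mA_injective (hc.inj (e'.trans (by rw [map_one, map_one]))))
  have hpg : IsPGroup 3 (zpowers β) := IsPGroup.of_card (n := 1) (by rw [Nat.card_zpowers, hβ, pow_one])
  have hmod := hpg.card_modEq_card_fixedPoints (Sylow 7 N)
  obtain ⟨P, hP⟩ : ∃ P : Sylow 7 N, ∀ z : zpowers β, z • P = P := by
    by_contra hno
    have he : Nat.card (MulAction.fixedPoints (zpowers β) (Sylow 7 N)) = 0 := by
      rw [Nat.card_eq_zero]
      exact Or.inl ⟨fun P => hno ⟨P.1, P.2⟩⟩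
    rw [he, Nat.modEq_zero_iff_dvd] at hmod
    obtain ⟨P₀⟩ : Nonempty (Sylow 7 N) := inferInstance
    have h1 := card_sylow_modEq_one 7 N
    have h2 := P₀.card_dvd_index
    have h3 : (P₀ : Subgroup N).index ∣ 24 := by
      have hm := (P₀ : Subgroup N).card_mul_index
      rw [hcard, P₀.card_eq_multiplicity, hcard, show (168 : ℕ) = 7 ^ 1 * 24 from rfl,
        Nat.factorization_mul (by norm_num) (by norm_num), (by norm_num : Nat.Prime 7).factorization_pow,
        Finsupp.add_apply, Finsupp.single_eq_same, Nat.factorization_eq_zero_of_not_dvd (by norm_num)] at hm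
      exact ⟨1, by omega⟩
    have h4 : Nat.card (Sylow 7 N) ≤ 24 := Nat.le_of_dvd (by norm_num) (h2.trans h3)
    have h5 := h2.trans h3
    rw [Nat.ModEq] at h1
    interval_cases hn : Nat.card (Sylow 7 N) <;> first | omega | norm_num at h5
  have hP7 : Nat.card (P : Subgroup N) = 7 := by
    rw [P.card_eq_multiplicity, hcard, show (168 : ℕ) = 7 ^ 1 * 24 from rfl,
      Nat.factorization_mul (by norm_num) (by norm_num), (by norm_num : Nat.Prime 7).factorization_pow,
      Finsupp.add_apply, Finsupp.single_eq_same, Nat.factorization_eq_zero_of_not_dvd (by norm_num), pow_one]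
  obtain ⟨η, hη⟩ := exists_prime_orderOf_dvd_card' 7 (show 7 ∣ Nat.card (P : Subgroup N) from hP7.symm ▸ dvd_rfl)
  have hconj : β * (η : N) * β⁻¹ ∈ (P : Subgroup N) := by
    have e := hP ⟨β, mem_zpowers β⟩
    rw [Subgroup.smul_def, Sylow.smul_eq_iff_mem_normalizer] at e
    exact (mem_normalizer_iff.1 e _).1 η.2
  have htop := zpowers_eq_top_of_prime_card hP7 (g := η) (fun e => by rw [e, orderOf_one] at hη; omega)
  obtain ⟨k, hk⟩ : ∃ k : ℕ, η ^ k = ⟨_, hconj⟩ :=
    (isOfFinOrder_of_finite η).mem_zpowers_iff_mem_range_orderOf.1 (htop ▸ mem_top _) |> fun h => by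
      obtain ⟨k, -, hk⟩ := Finset.mem_image.1 h
      exact ⟨k, hk⟩
  refine ⟨((η : N) : G), k, (η : N).2, by rw [Subgroup.orderOf_coe, Subgroup.orderOf_coe, hη], ?_⟩
  exact (congrArg (fun z : (P : Subgroup N) => ((z : N) : G)) hk).symm

/-- The standard frame exists after a relabelling of the centraliser. -/
theorem exists_frame [Finite G] [IsSimpleGroup G] (hc : Cent ι) :
    ∃ (ι' : M →* G) (h : G), Frame ι' h ∧ ι' mT = ι mT := by
  classical
  obtain ⟨h₀, k, hn₀, ho, hk⟩ := exists_seven hc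
  choose F₀ hF₀ using hc.conj_sv hn₀
  have hit : ∀ (n : ℕ) i, h₀ ^ n * sv ι i * (h₀ ^ n)⁻¹ = sv ι (F₀^[n] i) := by
    intro n
    induction n with
    | zero => intro i; simp
    | succ n ih =>
      intro i
      rw [pow_succ, Function.iterate_succ_apply, ← ih, ← hF₀]
      group
  have ht1 : ι mT = sv ι 1 := by rw [sv, vM_vals.2.1]
  have hinj : Function.Injective fun n : Fin 7 => F₀^[n.1] 1 := by
    have key : ∀ a b : ℕ, a < b → b < 7 → F₀^[a] 1 ≠ F₀^[b] 1 := by
      intro a b hab hb e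
      have e1 := hit a 1
      rw [e, ← hit b 1, ← Nat.add_sub_cancel' hab.le, pow_add] at e1
      have e2 : h₀ ^ (b - a) * sv ι 1 = sv ι 1 * h₀ ^ (b - a) := by
        refine mul_inv_eq_iff_eq_mul.1 (mul_left_cancel (a := h₀ ^ a) (mul_right_cancel (b := (h₀ ^ a)⁻¹) ?_))
        rw [e1]
        group
      rw [← ht1] at e2
      obtain ⟨x, hx⟩ := hc.full _ e2
      have e3 : (h₀ ^ (b - a)) ^ 30 = 1 := by rw [← hx, ← map_pow, (orders x).1, map_one]
      rw [← pow_mul, ← orderOf_dvd_iff_pow_eq_one, ho] at e3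
      rcases (Nat.Prime.dvd_mul (by norm_num)).1 e3 with h | h
      · have := Nat.le_of_dvd (by omega) h
        omega
      · norm_num at h
    intro a b e
    rcases lt_trichotomy a.1 b.1 with hlt | heq | hlt
    · exact absurd e (key _ _ hlt b.2)
    · exact Fin.ext heq
    · exact absurd e.symm (key _ _ hlt a.2)
  obtain ⟨n, hn2⟩ : ∃ n : Fin 7, F₀^[n.1] 1 = 2 := by
    have key : ∀ n : Fin 7, F₀^[n.1] 1 ≠ 0 := by
      intro n e
      have := hit n.1 1
      rw [e, sv_zero, conj_eq_one_iff, ← ht1] at this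
      exact hc.t_ne this
    by_contra hno
    push Not at hno
    let g : Fin 7 → {i : Fin 8 // i ≠ 0 ∧ i ≠ 2} := fun n => ⟨_, key n, hno n⟩
    have := Fintype.card_le_of_injective g fun a b e => hinj (congrArg Subtype.val e)
    rw [Fintype.card_fin, show Fintype.card {i : Fin 8 // i ≠ 0 ∧ i ≠ 2} = 6 by decide +kernel] at this
    omega
  set h := h₀ ^ n.1 with hh
  set F := F₀^[n.1] with hF
  have hconj : ∀ i, h * sv ι i * h⁻¹ = sv ι (F i) := hit n.1
  have hbh : ι (mA b0) * h * (ι (mA b0))⁻¹ = h ^ k := by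
    rw [hh, ← conj_pow, hk, ← pow_mul, ← pow_mul, mul_comm]
  have hn0 : n.1 ≠ 0 := by
    intro e
    rw [hF, e] at hn2
    exact absurd hn2 (show (1 : Fin 8) ≠ 2 by decide)
  have h7 : h ^ 7 = 1 := by rw [hh, ← pow_mul, mul_comm, pow_mul, orderOf_dvd_iff_pow_eq_one.1 (dvd_of_eq ho), one_pow]
  have hadd : ∀ i j, F (vAdd i j) = vAdd (F i) (F j) := fun i j => hc.sv_injective (by
    rw [← sv_mul, ← hconj, ← hconj, ← hconj, ← sv_mul]; group)
  have hlin : ∀ i, F i = lin (F 2) (F 4) i := by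
    intro i
    have h0 : F 0 = 0 := hc.sv_injective (by rw [← hconj, sv_zero]; group)
    conv_lhs => rw [vdec i, hadd, hadd]
    rw [lin, apply_ite F, apply_ite F, apply_ite F, hn2, h0]
  have hlin' : F = lin (F 2) (F 4) := funext hlin
  have hitF : ∀ (m : ℕ) i, h ^ m * sv ι i * (h ^ m)⁻¹ = sv ι (F^[m] i) := by
    intro m
    induction m with
    | zero => intro i; simp
    | succ m ih =>
      intro i
      rw [pow_succ, Function.iterate_succ_apply, ← ih, ← hconj]
      group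
  have hopt : F 2 = 4 ∧ F 4 = 3 ∨ F 2 = 6 ∧ F 4 = 5 := by
    refine lin_options _ _ (fun i => ?_) ⟨⟨k % 7, Nat.mod_lt _ (by norm_num)⟩, fun i => ?_⟩
    · rw [← hlin']
      exact hc.sv_injective (by rw [← hitF, h7]; group)
    · rw [← hlin']
      refine hc.sv_injective ?_
      rw [← hitF, ← hc.conj_b, ← hconj, ← hc.conj_b,
        show h ^ (k % 7) = h ^ k by conv_rhs => rw [← Nat.mod_add_div k 7, pow_add, pow_mul, h7, one_pow, mul_one],
        ← hbh]
      group
  have hsv : ι (mA rA) = sv ι 2 ∧ ι (mA sA) = sv ι 4 ∧ ι (mA (rA * sA)) = sv ι 6 ∧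
      ι mT * ι (mA rA) = sv ι 3 := by
    refine ⟨?_, ?_, ?_, ?_⟩ <;> simp only [sv, ← map_mul, vM_vals.2.2.1, vM_vals.2.2.2.1, vM_vals.2.2.2.2.1,
      vM_vals.2.2.2.2.2]
  rcases hopt with ⟨e2, e4⟩ | ⟨e2, e4⟩
  · have hk2 : (⟨k % 7, Nat.mod_lt _ (by norm_num)⟩ : Fin 7) = 2 := by
      refine lin_power _ fun i => ?_
      rw [← e2, ← e4, ← hlin']
      refine hc.sv_injective ?_
      rw [← hitF, ← hc.conj_b, ← hconj, ← hc.conj_b,
        show h ^ (k % 7) = h ^ k by conv_rhs => rw [← Nat.mod_add_div k 7, pow_add, pow_mul, h7, one_pow, mul_one],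
        ← hbh]
      group
    refine ⟨ι, h, ⟨hc, h7, ?_, ?_, ?_, ?_⟩, rfl⟩
    · rw [hbh, ← Nat.mod_add_div k 7, pow_add, pow_mul, h7, one_pow, mul_one, show k % 7 = 2 from congrArg Fin.val hk2]
    · rw [ht1, hconj, hn2, hsv.1]
    · rw [hsv.1, hconj, e2, hsv.2.1]
    · rw [hsv.2.1, hconj, e4, hsv.2.2.2]
  · obtain ⟨σ, hσb, hσr⟩ := flip
    let σ' : MulAut A5 := MulAut.conjNormal σ
    let ι' : M →* G := ι.comp (MonoidHom.prodMap (MonoidHom.id _) σ'.toMonoidHom)
    have happ : ∀ p, ι' (mA p) = ι (mA (σ' p)) := fun p => rfl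
    have hT : ι' mT = ι mT := by
      show ι (_, σ' 1) = _
      rw [map_one]
      rfl
    have hc' : Cent ι' := by
      refine ⟨?_, fun g hg => ?_, hc.sixteen⟩
      · exact hc.inj.comp (Prod.map_injective.2 ⟨Function.injective_id, σ'.injective⟩)
      · rw [hT] at hg
        obtain ⟨x, rfl⟩ := hc.full g hg
        exact ⟨(x.1, σ'.symm x.2), congrArg ι (Prod.ext rfl (σ'.apply_symm_apply x.2))⟩
    have hσs : σ' sA = rA * sA := by
      rw [show sA = b0 * rA * b0⁻¹ from four_rel.2.2.2.2.2.2.1.symm, map_mul, map_mul, map_inv]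
      show MulAut.conjNormal σ b0 * MulAut.conjNormal σ rA * (MulAut.conjNormal σ b0)⁻¹ = _
      rw [hσb, hσr]
      decide +kernel
    have hr' : σ' rA = rA := hσr
    have hb' : σ' b0 = b0⁻¹ := hσb
    set j := (⟨k % 7, Nat.mod_lt _ (by norm_num)⟩ : Fin 7)
    have hj : ∀ j : Fin 7, (∀ i, bOp (lin 6 5 i) = (lin 6 5)^[j.1] (bOp i)) → j = 4 := by decide +kernel
    have hk4 : j = 4 := by
      refine hj _ fun i => ?_
      rw [← e2, ← e4, ← hlin']
      refine hc.sv_injective ?_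
      rw [← hitF, ← hc.conj_b, ← hconj, ← hc.conj_b,
        show h ^ (k % 7) = h ^ k by conv_rhs => rw [← Nat.mod_add_div k 7, pow_add, pow_mul, h7, one_pow, mul_one],
        ← hbh]
      group
    have hb4 : ι (mA b0) * h * (ι (mA b0))⁻¹ = h ^ 4 := by
      rw [hbh, ← Nat.mod_add_div k 7, pow_add, pow_mul, h7, one_pow, mul_one, show k % 7 = 4 from congrArg Fin.val hk4]
    refine ⟨ι', h, ⟨hc', h7, ?_, ?_, ?_, ?_⟩, hT⟩
    · rw [happ, hb', map_inv, map_inv, inv_inv]
      set β := ι (mA b0)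
      have e : β * h ^ 2 * β⁻¹ = h := by
        rw [← conj_pow, hb4, ← pow_mul, show (4 : ℕ) * 2 = 7 + 1 from rfl, pow_succ, h7, one_mul]
      calc β⁻¹ * h * β = β⁻¹ * (β * h ^ 2 * β⁻¹) * β := by rw [e]
        _ = h ^ 2 := by group
    · rw [hT, happ, hr', ht1, hconj, hn2, hsv.1]
    · rw [happ, happ, hr', hσs, hsv.1, hconj, e2, hsv.2.2.1]
    · rw [hT, happ, happ, hr', hσs, hsv.2.2.1, hconj, hsv.2.2.2]
      congr 1
      rw [show (6 : Fin 8) = vAdd 2 4 by decide, hadd, e2, e4]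
      decide

end CfsgLib.Spor.J1Type
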