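import Cfsg.Agent.Lib.Spor.HN.Words
import Cfsg.Agent.Lib.Spor.J1Type.Frame

/-!
# Groups of Janko's first type: the relators

The letters stand for `a, b, t, h`; the letter `2 i + 1` is the inverse of the letter `2 i`.
-/

set_option autoImplicit false
set_option maxRecDepth 100000

namespace CfsgLib.Spor.J1Type

open CfsgLib.Spor.TC CfsgLib.Spor.HN CfsgLib.Invol.JTwo.Icosa

/-- The inverse word. -/
def wInv (l : List ℕ) : List ℕ := (l.map fun x => x ^^^ 1).reverse

/-- The word of the involution `r`. -/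
def wRA : List ℕ := [3, 0, 2, 0, 3, 0, 2]

/-- The word of the involution `s`. -/
def wSA : List ℕ := [0, 2, 0, 3, 0]

/-- The word of the element `y`. -/
def wYA : List ℕ := [0, 3, 0]

/-- The words of the four elements of order five. -/
def wPA : Fin 4 → List ℕ := ![[3, 0, 2, 0, 3], [0, 2, 0, 3], [0, 2], [0, 3, 0, 2, 0, 3, 0]]

/-- The words of the conjugators. -/
def wK : Fin 4 → List ℕ := ![[6], [6], [6, 6, 6], [6, 6, 6]]

/-- The relators of the amalgam. -/
def baseRels : List (List ℕ) :=
  [[0, 0], [2, 2, 2], [0, 2, 0, 2, 0, 2, 0, 2, 0, 2], [4, 4], [0, 4, 0, 4], [2, 4, 3, 4], [6, 6, 6, 6, 6, 6, 6],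
    [2, 6, 3, 7, 7], [6, 4, 7] ++ wInv wRA, [6] ++ wRA ++ [7] ++ wInv wSA,
    [6] ++ wSA ++ [7] ++ wInv ([4] ++ wRA)]

/-- The word of the element of order five outside the centraliser. -/
def wF (i : Fin 4) : List ℕ := wK i ++ wPA i ++ wInv (wK i)

/-- All relators of a configuration. -/
def allRels (i : Fin 4) : List (List ℕ) := baseRels ++ [wF i ++ wYA ++ wInv (wF i) ++ wInv wYA]

variable {G : Type*} [Group G]

/-- The values of the letters. -/
def gl (ι : M →* G) (h : G) : ℕ → G := letterVal [ι (mA a0), ι (mA b0), ι mT, h]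

theorem gl_inv (ι : M →* G) (h : G) (x : ℕ) : gl ι h (invLetter 8 x) = (gl ι h x)⁻¹ :=
  letterVal_inv [ι (mA a0), ι (mA b0), ι mT, h] x

theorem gl_eight (ι : M →* G) (h : G) : gl ι h 8 = 1 := letterVal_of_le (le_refl 8)

theorem letterVal_xor' (l : List G) (x : ℕ) : letterVal l (x ^^^ 1) = (letterVal l x)⁻¹ := by
  unfold letterVal
  rcases Nat.mod_two_eq_zero_or_one x with h0 | h0
  · rw [Nat.xor_one_of_even (Nat.even_iff.2 h0), if_neg (by omega), if_pos h0,
      show (x + 1) / 2 = x / 2 by omega]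
  · rw [Nat.xor_one_of_odd (Nat.odd_iff.2 h0), if_pos (by omega), if_neg (by omega),
      show (x - 1) / 2 = x / 2 by omega, inv_inv]

theorem ev_wInv (ι : M →* G) (h : G) : ∀ w : List ℕ, ev (gl ι h) (wInv w) = (ev (gl ι h) w)⁻¹
  | [] => by simp [ev, wInv]
  | x :: w => by
    have e : wInv (x :: w) = wInv w ++ [x ^^^ 1] := by simp [wInv]
    rw [e, ev_append, ev_wInv ι h w, ev_cons _ x w, mul_inv_rev]
    simp [ev, gl, letterVal_xor']

/-- A word in `a, b` takes its value in the alternating group. -/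
theorem ev_gl (ι : M →* G) (h : G) {w : List ℕ} (hw : ∀ x ∈ w, x < 4) :
    ev (gl ι h) w = ι (mA (ev (letterVal [a0, b0]) w)) := by
  show _ = (ι.comp mA) _
  rw [map_ev_letterVal]
  refine congrArg List.prod (List.map_congr_left fun x hx => ?_)
  have := hw x hx
  interval_cases x <;> simp [gl, letterVal]

theorem word_vals : ev (letterVal [a0, b0]) wRA = rA ∧ ev (letterVal [a0, b0]) wSA = sA ∧
    ev (letterVal [a0, b0]) wYA = yA ∧ ∀ i, ev (letterVal [a0, b0]) (wPA i) = pA i := by decide +kernel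

variable {ι : M →* G} {h : G}

theorem base_hold (F : Frame ι h) : ∀ r ∈ baseRels, ev (gl ι h) r = 1 := by
  have hr : ev (gl ι h) wRA = ι (mA rA) := by rw [ev_gl ι h (by decide), word_vals.1]
  have hs : ev (gl ι h) wSA = ι (mA sA) := by rw [ev_gl ι h (by decide), word_vals.2.1]
  have ha : ι (mA a0) * ι (mA a0) = 1 := by rw [← map_mul, ← map_mul, gens_rel.1, map_one, map_one]
  have hT : ∀ x : M, ι mT * ι x = ι x * ι mT := fun x => by rw [← map_mul, ← map_mul, mT_rel.2.2]
  intro r hmem
  simp only [baseRels, List.mem_cons, List.not_mem_nil, or_false] at hmem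
  rcases hmem with rfl | rfl | rfl | rfl | rfl | rfl | rfl | rfl | rfl | rfl | rfl
  · simpa [ev, gl, letterVal] using ha
  · simp only [ev, gl, letterVal, List.map_cons, List.map_nil, List.prod_cons, List.prod_nil, mul_one]
    norm_num
    rw [← map_mul, ← map_mul, ← map_mul, ← map_mul, ← mul_assoc, gens_rel.2.1, map_one, map_one]
  · rw [ev_gl ι h (by decide), show ev (letterVal [a0, b0]) [0, 2, 0, 2, 0, 2, 0, 2, 0, 2] = 1 by decide +kernel,
      map_one, map_one]
  · simpa [ev, gl, letterVal] using F.toCent.t_sq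
  · simp only [ev, gl, letterVal, List.map_cons, List.map_nil, List.prod_cons, List.prod_nil, mul_one]
    norm_num
    rw [← mul_assoc (ι mT), hT, mul_assoc (ι (mA a0)), F.toCent.t_sq, mul_one, ha]
  · simp only [ev, gl, letterVal, List.map_cons, List.map_nil, List.prod_cons, List.prod_nil, mul_one]
    norm_num
    rw [← mul_assoc (ι mT), ← map_inv, hT, mul_assoc, F.toCent.t_sq, mul_one, ← map_mul, mul_inv_cancel, map_one]
  · have e := F.seven
    simp only [ev, gl, letterVal, List.map_cons, List.map_nil, List.prod_cons, List.prod_nil, mul_one]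
    norm_num
    rw [← e]
    simp only [pow_succ, pow_zero, one_mul, mul_assoc]
  · have e := F.hb
    simp only [ev, gl, letterVal, List.map_cons, List.map_nil, List.prod_cons, List.prod_nil, mul_one]
    norm_num
    calc ι (mA b0) * (h * ((ι (mA b0))⁻¹ * (h⁻¹ * h⁻¹)))
        = ι (mA b0) * h * (ι (mA b0))⁻¹ * (h ^ 2)⁻¹ := by group
      _ = 1 := by rw [e, mul_inv_cancel]
  · rw [ev_append, ev_wInv, hr]
    simp only [ev, gl, letterVal, List.map_cons, List.map_nil, List.prod_cons, List.prod_nil, mul_one]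
    norm_num
    rw [← mul_assoc h, F.ht, mul_inv_cancel]
  · rw [ev_append, ev_wInv, hs, ev_append, ev_append, hr]
    simp only [ev, gl, letterVal, List.map_cons, List.map_nil, List.prod_cons, List.prod_nil, mul_one]
    norm_num
    rw [F.hr, mul_inv_cancel]
  · rw [ev_append, ev_wInv, ev_append, ev_append, ev_append, hr, hs]
    simp only [ev, gl, letterVal, List.map_cons, List.map_nil, List.prod_cons, List.prod_nil, mul_one]
    norm_num
    rw [F.hs]
    group

/-- The conjugator. -/
def kEl (h : G) : Fin 4 → G := ![h, h, h * h * h, h * h * h]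

/-- The element of order five outside the centraliser. -/
def fEl (ι : M →* G) (h : G) (i : Fin 4) : G := kEl h i * ι (mA (pA i)) * (kEl h i)⁻¹

theorem all_hold (F : Frame ι h) {i : Fin 4} (hc : fEl ι h i * ι (mA yA) = ι (mA yA) * fEl ι h i) :
    ∀ r ∈ allRels i, ev (gl ι h) r = 1 := by
  intro r hr
  rcases List.mem_append.1 hr with hr | hr
  · exact base_hold F r hr
  rw [List.mem_singleton] at hr
  subst hr
  have hk : ev (gl ι h) (wK i) = kEl h i := by
    fin_cases i <;> simp [wK, kEl, ev, gl, letterVal, mul_assoc]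
  have hp : ev (gl ι h) (wPA i) = ι (mA (pA i)) := by
    rw [ev_gl ι h (fun x hx => (show ∀ i, ∀ x ∈ wPA i, x < 4 by decide) i x hx), word_vals.2.2.2]
  have hf : ev (gl ι h) (wF i) = fEl ι h i := by rw [wF, ev_append, ev_append, ev_wInv, hk, hp, fEl]
  rw [ev_append, ev_append, ev_append, ev_wInv, ev_wInv, hf,
    ev_gl ι h (w := wYA) (by decide), word_vals.2.2.1, hc]
  group

end CfsgLib.Spor.J1Type
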