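import Cfsg.Agent.Lib.Spor.J1Type.Generate
import Cfsg.Agent.Lib.Spor.J1Type.Words
import Cfsg.Agent.Lib.Coprime.Action
import Cfsg.Agent.Lib.Invol.CyclicCentralizer

/-!
# Groups of Janko's first type: an element of order five commuting with the element of order three
-/

set_option autoImplicit false
set_option maxRecDepth 10000

namespace CfsgLib.Spor.J1Type

open Subgroup CfsgLib.Invol.JTwo.Icosa

variable {G : Type*} [Group G] {ι : M →* G} {h : G}

theorem five_mem : ∀ z : M, z ^ 5 = 1 → ∃ p : A5, z = mA p ∧ p ^ 5 = 1 := by decide +kernel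

theorem y_conj : ∀ i : Fin 8, i.1 < 4 →
    vM i * mA yA * (vM i)⁻¹ = mA yA ∨ vM i * mA yA * (vM i)⁻¹ = (mA yA)⁻¹ := by decide +kernel

theorem y_invert : vM 2 * mA yA * (vM 2)⁻¹ = (mA yA)⁻¹ ∧ vM 2 * mA yA * (vM 2)⁻¹ ≠ mA yA := by decide +kernel

theorem lt_four : ∀ i j : Fin 8, i.1 < 4 → j.1 < 4 → (vAdd i j).1 < 4 := by decide +kernel

theorem vAdd_comm : ∀ i j, vAdd i j = vAdd j i := by decide +kernel

theorem y_two_part : ∀ (i : Fin 2) (l : Fin 3), (mT ^ i.1 * mA yA ^ l.1) ^ 4 = 1 → l = 0 := by decide +kernel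

/-- The four-group normalising the centraliser of the element of order three. -/
def klein (ι : M →* G) : Subgroup G where
  carrier := {g | ∃ i : Fin 8, i.1 < 4 ∧ sv ι i = g}
  mul_mem' := by
    rintro _ _ ⟨i, hi, rfl⟩ ⟨j, hj, rfl⟩
    exact ⟨_, lt_four i j hi hj, (sv_mul ι i j).symm⟩
  one_mem' := ⟨0, by decide, sv_zero ι⟩
  inv_mem' := by rintro _ ⟨i, hi, rfl⟩; exact ⟨i, hi, eq_inv_of_mul_eq_one_left (sv_sq ι i)⟩

theorem klein_le : klein ι ≤ four ι := by rintro _ ⟨i, -, rfl⟩; exact sv_mem ι i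

namespace Cent

variable (hc : Cent ι)
include hc

theorem abelian_two [Finite G] {Q : Subgroup G} (hQ : IsPGroup 2 Q) {a b : G} (ha : a ∈ Q) (hb : b ∈ Q) :
    a * b = b * a := by
  haveI : Fact (Nat.Prime 2) := ⟨Nat.prime_two⟩
  obtain ⟨S, hS⟩ := hc.exists_sylow
  obtain ⟨Q', hQ'⟩ := hQ.exists_le_sylow
  obtain ⟨k, hk⟩ := MulAction.exists_smul_eq G S Q'
  have key : ∀ a ∈ Q, k⁻¹ * a * k ∈ four ι := by
    intro a ha
    have hmem : a ∈ (k • S : Sylow 2 G).toSubgroup := hk ▸ hQ' ha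
    rw [Sylow.smul_def, Sylow.pointwise_smul_def, Subgroup.mem_pointwise_smul_iff_inv_smul_mem] at hmem
    rw [← hS]
    simpa [MulAut.smul_def] using hmem
  obtain ⟨i, hi⟩ := key a ha
  obtain ⟨j, hj⟩ := key b hb
  have e : k⁻¹ * a * k * (k⁻¹ * b * k) = k⁻¹ * b * k * (k⁻¹ * a * k) := by
    rw [← hi, ← hj, sv_mul, sv_mul, vAdd_comm i j]
  calc a * b = k * (k⁻¹ * a * k * (k⁻¹ * b * k)) * k⁻¹ := by group
    _ = b * a := by rw [e]; group

theorem sv_one : sv ι 1 = ι mT := by rw [sv, vM_vals.2.1]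

theorem centralizer_y_t {g : G} (hgy : g * ι (mA yA) = ι (mA yA) * g) (hgt : g * ι mT = ι mT * g) :
    ∃ (i : Fin 2) (j : Fin 3), ι (mT ^ i.1 * mA yA ^ j.1) = g := by
  obtain ⟨x, rfl⟩ := hc.full g hgt
  obtain ⟨i, j, rfl⟩ := centralizer_y x (hc.inj (by rw [map_mul, map_mul, hgy]))
  exact ⟨i, j, rfl⟩

theorem y_pow : ι (mA yA) ^ 3 = 1 := by
  rw [← map_pow, ← map_pow, pow_three', y_rel.1, map_one, map_one]

theorem orderOf_y : orderOf (ι (mA yA)) = 3 := by
  haveI : Fact (Nat.Prime 3) := ⟨Nat.prime_three⟩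
  exact orderOf_eq_prime hc.y_pow fun e => y_rel.2.1 (mA_injective (hc.inj (e.trans (by rw [map_one, map_one]))))

theorem klein_conj_y {a : G} (ha : a ∈ klein ι) :
    a * ι (mA yA) * a⁻¹ = ι (mA yA) ∨ a * ι (mA yA) * a⁻¹ = (ι (mA yA))⁻¹ := by
  obtain ⟨i, hi, rfl⟩ := ha
  rcases y_conj i hi with e | e <;> [left; right] <;> rw [sv, ← map_inv ι (vM i), ← map_mul, ← map_mul, e]
  rw [map_inv]

theorem klein_conj_mem {a : G} (ha : a ∈ klein ι) {g : G} (hg : g ∈ centralizer ({ι (mA yA)} : Set G)) :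
    a * g * a⁻¹ ∈ centralizer ({ι (mA yA)} : Set G) := by
  rw [mem_centralizer_singleton_iff] at hg ⊢
  have hg' : g * (ι (mA yA))⁻¹ = (ι (mA yA))⁻¹ * g := (Commute.inv_right hg).eq
  rcases hc.klein_conj_y (inv_mem ha) with e | e <;> rw [inv_inv] at e
  · calc a * g * a⁻¹ * ι (mA yA) = a * (g * (a⁻¹ * ι (mA yA) * a)) * a⁻¹ := by group
      _ = a * (a⁻¹ * ι (mA yA) * a * g) * a⁻¹ := by rw [e, hg]
      _ = ι (mA yA) * (a * g * a⁻¹) := by group
  · calc a * g * a⁻¹ * ι (mA yA) = a * (g * (a⁻¹ * ι (mA yA) * a)) * a⁻¹ := by group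
      _ = a * (a⁻¹ * ι (mA yA) * a * g) * a⁻¹ := by rw [e, hg']
      _ = ι (mA yA) * (a * g * a⁻¹) := by group

/-- The centraliser of the element of order three is twice an odd number. -/
theorem card_centralizer_y [Finite G] :
    ∃ k, Odd k ∧ Nat.card (centralizer ({ι (mA yA)} : Set G)) = 2 * k := by
  haveI : Fact (Nat.Prime 2) := ⟨Nat.prime_two⟩
  set C := centralizer ({ι (mA yA)} : Set G) with hC
  have htC : ι mT ∈ C := by
    rw [hC, mem_centralizer_singleton_iff, ← map_mul, ← map_mul, mT_rel.2.2]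
  have h2 : 2 ∣ Nat.card C := hc.orderOf_t ▸ orderOf_mk (ι mT) htC ▸ orderOf_dvd_natCard _
  obtain ⟨k, hk⟩ := h2
  refine ⟨k, Nat.not_even_iff_odd.1 ?_, hk⟩
  rintro ⟨j, rfl⟩
  have hz : IsPGroup 2 (zpowers (⟨ι mT, htC⟩ : C)) :=
    IsPGroup.of_card (n := 1) (by rw [Nat.card_zpowers, pow_one, orderOf_mk, hc.orderOf_t])
  obtain ⟨Q, hQ⟩ := hz.exists_le_sylow
  have h4 : 4 ∣ Nat.card (Q : Subgroup C) :=
    Q.pow_dvd_card_of_pow_dvd_card (n := 2) ⟨j, by rw [hk]; ring⟩
  have hsub : ∀ q ∈ (Q : Subgroup C), (q : G) = 1 ∨ (q : G) = ι mT := by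
    intro q hq
    have hpq : IsPGroup 2 ((Q : Subgroup C).map C.subtype) := Q.2.map _
    have e := hc.abelian_two hpq (a := (q : G)) (b := ι mT) ⟨q, hq, rfl⟩ ⟨_, hQ (mem_zpowers _), rfl⟩
    obtain ⟨i, l, hil⟩ := hc.centralizer_y_t (mem_centralizer_singleton_iff.1 q.2) e
    obtain ⟨n, hn⟩ := Q.2 ⟨q, hq⟩
    have hqn : (q : G) ^ 2 ^ n = 1 := by
      have := congrArg (fun z : (Q : Subgroup C) => ((z : C) : G)) hn
      simpa using this
    rw [← hil, ← map_pow, map_eq_one_iff ι hc.inj] at hqn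
    have h30 : (mT ^ i.1 * mA yA ^ l.1) ^ 4 = 1 := by
      have hg := pow_gcd_eq_one.2 ⟨hqn, (orders (mT ^ i.1 * mA yA ^ l.1)).1⟩
      have hd : Nat.gcd (2 ^ n) 30 ∣ 4 := by
        obtain ⟨m, hm, e⟩ := (Nat.dvd_prime_pow Nat.prime_two).1 (Nat.gcd_dvd_left (2 ^ n) 30)
        have h' : 2 ^ m ∣ 30 := e ▸ Nat.gcd_dvd_right _ _
        rw [e]
        rcases Nat.lt_or_ge m 2 with hlt | hge
        · interval_cases m <;> norm_num
        · exact absurd (dvd_trans (pow_dvd_pow 2 hge) h') (by norm_num)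
      obtain ⟨c, hc4⟩ := hd
      rw [hc4, pow_mul, hg, one_pow]
    have hl : l = 0 := by
      exact y_two_part i l h30
    subst hl
    rw [show ((0 : Fin 3) : ℕ) = 0 from rfl, pow_zero, mul_one] at hil
    fin_cases i
    · left; rw [← hil]; simp
    · right; rw [← hil]; simp
  have hle : Nat.card (Q : Subgroup C) ≤ 2 := by
    classical
    have := Nat.card_le_card_of_injective (fun q : (Q : Subgroup C) => decide (((q : C) : G) = 1)) fun a b e => by
      refine Subtype.ext (Subtype.ext ?_)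
      rcases hsub _ a.2 with ha | ha <;> rcases hsub _ b.2 with hb | hb <;> simp_all [hc.t_ne]
    simpa using this
  have := Nat.le_of_dvd Nat.card_pos h4
  omega

/-- A prime divisor of the centraliser, of multiplicity one, belongs to an element centralised by an
involution of the four-group. -/
theorem exists_centralized [Finite G] {q : ℕ} (hq : q.Prime) (hq2 : q ≠ 2)
    (hdvd : q ∣ Nat.card (centralizer ({ι (mA yA)} : Set G))) (hsq : ¬ q ^ 2 ∣ Nat.card G) :
    ∃ x : G, x * ι (mA yA) = ι (mA yA) * x ∧ orderOf x = q ∧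
      (ι mT * x = x * ι mT ∨ ι mT * x * ι mT = x⁻¹ ∧ (sv ι 2 * x = x * sv ι 2 ∨ sv ι 3 * x = x * sv ι 3)) := by
  haveI : Fact q.Prime := ⟨hq⟩
  haveI : Fact (Nat.Prime 2) := ⟨Nat.prime_two⟩
  set C := centralizer ({ι (mA yA)} : Set G) with hC
  obtain ⟨k, hk, hcard⟩ := hc.card_centralizer_y
  have hev : Even (Nat.card C) := ⟨k, by rw [hcard]; ring⟩
  obtain ⟨T⟩ : Nonempty (Sylow 2 C) := inferInstance
  have hT : Nat.card (T : Subgroup C) = 2 := by
    rw [T.card_eq_multiplicity, hcard, Nat.factorization_mul (by norm_num) (by rintro rfl; simp at hk),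
      Finsupp.add_apply, Nat.prime_two.factorization_self,
      Nat.factorization_eq_zero_of_not_dvd (Nat.two_dvd_ne_zero.2 (Nat.odd_iff.1 hk)), add_zero, pow_one]
  obtain ⟨H, hH⟩ := CfsgLib.Invol.exists_index_two_of_cyclic hev T (isCyclic_of_prime_card hT)
  haveI : H.Normal := normal_of_index_eq_two hH
  have hHk : Nat.card H = k := by
    have := H.card_mul_index
    rw [hH, hcard] at this
    omega
  set K := H.map C.subtype with hK
  have hKk : Nat.card K = k := by rw [hK, card_map_of_injective C.subtype_injective, hHk]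
  have hKC : K ≤ C := map_subtype_le _
  have hKodd : ∀ g ∈ C, g ^ k = 1 → g ∈ K := by
    intro g hg hgk
    refine ⟨⟨g, hg⟩, ?_, rfl⟩
    by_contra hgH
    have h1 : (((⟨g, hg⟩ : C) : C ⧸ H)) ≠ 1 := fun e => hgH ((QuotientGroup.eq_one_iff _).1 e)
    have h2 : orderOf (((⟨g, hg⟩ : C) : C ⧸ H)) = 2 := by
      refine (Nat.prime_two.eq_one_or_self_of_dvd _ ?_).resolve_left fun e => h1 (orderOf_eq_one_iff.1 e)
      rw [← hH, Subgroup.index]
      exact orderOf_dvd_natCard _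
    have h3 : (((⟨g, hg⟩ : C) : C ⧸ H)) ^ k = 1 := by
      rw [← QuotientGroup.mk_pow, show (⟨g, hg⟩ : C) ^ k = 1 from Subtype.ext hgk, QuotientGroup.mk_one]
    rw [← orderOf_dvd_iff_pow_eq_one, h2] at h3
    exact Nat.two_dvd_ne_zero.2 (Nat.odd_iff.1 hk) h3
  have hAK : klein ι ≤ normalizer (K : Set G) := by
    intro a ha
    rw [mem_normalizer_iff_map_conj_eq]
    refine Subgroup.eq_of_le_of_card_ge ?_ (le_of_eq (card_map_of_injective (MulAut.conj a).injective).symm)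
    rintro _ ⟨g, hg, rfl⟩
    refine hKodd _ (hc.klein_conj_mem ha (hKC hg)) ?_
    show (a * g * a⁻¹) ^ k = 1
    have hgk : g ^ k = 1 := by
      have := congrArg Subtype.val (pow_card_eq_one' (x := (⟨g, hg⟩ : K)))
      rwa [hKk] at this
    rw [conj_pow, hgk]
    group
  have hA : Nat.card (klein ι) ∣ 8 := hc.card_four ▸ card_dvd_of_le klein_le
  have hcop : (Nat.card (klein ι)).Coprime (Nat.card K) := by
    rw [hKk]
    refine Nat.Coprime.coprime_dvd_left hA ?_
    rw [show (8 : ℕ) = 2 ^ 3 from rfl, Nat.coprime_pow_left_iff (by norm_num), Nat.coprime_two_left]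
    exact hk
  haveI : IsMulCommutative (klein ι) :=
    ⟨⟨fun a b => Subtype.ext (show (a : G) * b = b * a from
      congrArg Subtype.val (mul_comm' (⟨a, klein_le a.2⟩ : four ι) ⟨b, klein_le b.2⟩))⟩⟩
  obtain ⟨P, hP, hPA⟩ := CfsgLib.Coprime.exists_invariant_sylow hAK hcop
    (Or.inl (Group.isSolvable_of_comm fun a b => mul_comm' a b)) q
  have hqk : q ∣ k := ((Nat.Prime.dvd_mul hq).1 (hcard ▸ hdvd)).resolve_left fun e =>
    hq2 ((Nat.prime_dvd_prime_iff_eq hq Nat.prime_two).1 e)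
  have hk0 : k ≠ 0 := by rintro rfl; simp at hk
  have hPq : Nat.card P = q := by
    rw [hP.2, hKk]
    have h1 : k.factorization q = 1 := by
      refine le_antisymm ?_ (hq.factorization_pos_of_dvd hk0 hqk)
      by_contra hlt
      refine hsq (dvd_trans ((hq.pow_dvd_iff_le_factorization hk0).2 (show 2 ≤ _ by omega)) ?_)
      rw [← hKk]
      exact Subgroup.card_subgroup_dvd_card K
    rw [h1, pow_one]
  obtain ⟨η, hη⟩ := exists_prime_orderOf_dvd_card' q (show q ∣ Nat.card P from hPq.symm ▸ dvd_rfl)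
  have htop := zpowers_eq_top_of_prime_card hPq (g := η) (fun e => by rw [e, orderOf_one] at hη; exact hq.ne_one hη.symm)
  have hx : orderOf (η : G) = q := by rw [Subgroup.orderOf_coe, hη]
  have hinv : ∀ a ∈ klein ι, a * (η : G) * a⁻¹ = (η : G) ∨ a * (η : G) * a⁻¹ = (η : G)⁻¹ := by
    intro a ha
    have hm : a * (η : G) * a⁻¹ ∈ P := (mem_normalizer_iff.1 (hPA ha) _).1 η.2
    obtain ⟨n, hn⟩ := mem_zpowers_iff.1 (htop ▸ mem_top (⟨_, hm⟩ : P))
    have hn' : (η : G) ^ n = a * (η : G) * a⁻¹ := congrArg Subtype.val hn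
    have haa : a * a = 1 := by obtain ⟨i, -, rfl⟩ := ha; exact sv_sq ι i
    have hn2 : (η : G) ^ (n * n) = (η : G) ^ (1 : ℤ) := by
      rw [zpow_mul, hn', conj_zpow, hn', zpow_one, show a * (a * (η : G) * a⁻¹) * a⁻¹ = a * a * η * (a * a)⁻¹ by
        group, haa]
      group
    rw [zpow_eq_zpow_iff_modEq, hx] at hn2
    have hqi : Prime (q : ℤ) := Nat.prime_iff_prime_int.1 hq
    have hd : (q : ℤ) ∣ (1 - n) * (1 + n) := by
      rw [show (1 - n) * (1 + n) = 1 - n * n by ring]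
      exact Int.modEq_iff_dvd.1 hn2
    rcases hqi.dvd_or_dvd hd with h | h
    · left
      rw [← hn', ← zpow_one (η : G), ← zpow_mul, one_mul, zpow_eq_zpow_iff_modEq, hx]
      exact Int.modEq_iff_dvd.2 h
    · right
      rw [← hn', ← zpow_neg_one, zpow_eq_zpow_iff_modEq, hx]
      exact Int.modEq_iff_dvd.2 (by rwa [show (-1 : ℤ) - n = -(1 + n) by ring, dvd_neg])
  refine ⟨η, mem_centralizer_singleton_iff.1 (hKC (hP.1 η.2)), hx, ?_⟩
  have hk' : ∀ i : Fin 8, i.1 < 4 → sv ι i ∈ klein ι := fun i hi => ⟨i, hi, rfl⟩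
  have hi' : ∀ i, (sv ι i)⁻¹ = sv ι i := fun i => inv_eq_of_mul_eq_one_right (sv_sq ι i)
  rcases hinv _ (hk' 1 (by decide)) with e1 | e1
  · left
    rw [← hc.sv_one]
    exact mul_inv_eq_iff_eq_mul.1 e1
  · right
    refine ⟨by rw [← hc.sv_one]; rwa [hi'] at e1, ?_⟩
    rcases hinv _ (hk' 2 (by decide)) with e2 | e2
    · exact Or.inl (mul_inv_eq_iff_eq_mul.1 e2)
    · right
      refine mul_inv_eq_iff_eq_mul.1 ?_
      rw [show sv ι 3 = sv ι 1 * sv ι 2 from (sv_mul ι 1 2).symm,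
        show sv ι 1 * sv ι 2 * (η : G) * (sv ι 1 * sv ι 2)⁻¹ = sv ι 1 * (sv ι 2 * η * (sv ι 2)⁻¹) * (sv ι 1)⁻¹ by
          group, e2, show sv ι 1 * (η : G)⁻¹ * (sv ι 1)⁻¹ = (sv ι 1 * η * (sv ι 1)⁻¹)⁻¹ by group, e1, inv_inv]

/-- The normaliser of the element of order three has twice the order of its centraliser. -/
theorem card_normalizer_y [Finite G] :
    Nat.card (normalizer (zpowers (ι (mA yA)) : Set G)) =
      2 * Nat.card (centralizer ({ι (mA yA)} : Set G)) := by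
  set y := ι (mA yA) with hy
  set C := centralizer ({y} : Set G) with hC
  set N := normalizer (zpowers y : Set G) with hN
  set r := sv ι 2 with hr
  have e2 : r * y * r⁻¹ = y⁻¹ := by rw [hr, hy, sv, ← map_inv, ← map_mul, ← map_mul, y_invert.1, map_inv]
  have hNiff : ∀ g, g * y * g⁻¹ = y ∨ g * y * g⁻¹ = y⁻¹ → g ∈ N := by
    intro g hg
    rw [hN, mem_normalizer_iff_map_conj_eq, MonoidHom.map_zpowers]
    show zpowers (g * y * g⁻¹) = zpowers y
    rcases hg with e | e <;> rw [e]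
    exact zpowers_inv
  have hCN : C ≤ N := fun g hg => hNiff g (Or.inl (mul_inv_eq_iff_eq_mul.2 (mem_centralizer_singleton_iff.1 hg)))
  have hrN : r ∈ N := hNiff _ (Or.inr e2)
  have hidx : (C.subgroupOf N).index = 2 := by
    refine Subgroup.index_eq_two_iff.2 ⟨⟨r, hrN⟩, fun g => ?_⟩
    have hgy : (g : G) * y * (g : G)⁻¹ ∈ zpowers y := (mem_normalizer_iff.1 g.2 _).1 (mem_zpowers _)
    classical
    obtain ⟨n, hn3, hn⟩ : ∃ n < 3, y ^ n = (g : G) * y * (g : G)⁻¹ := by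
      obtain ⟨n, hn, e⟩ := Finset.mem_image.1 ((isOfFinOrder_of_finite y).mem_zpowers_iff_mem_range_orderOf.1 hgy)
      exact ⟨n, by rw [← hc.orderOf_y]; exact Finset.mem_range.1 hn, e⟩
    have hne : y⁻¹ ≠ y := by
      intro e
      have e' : (mA yA)⁻¹ = mA yA := hc.inj (by rw [map_inv]; exact e)
      exact absurd e' (by decide +kernel)
    have h3 : y ^ 3 = 1 := hc.y_pow
    simp only [mem_subgroupOf, Subgroup.coe_mul, hC, mem_centralizer_singleton_iff, ← mul_inv_eq_iff_eq_mul]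
    rw [show (g : G) * r * y * ((g : G) * r)⁻¹ = g * (r * y * r⁻¹) * (g : G)⁻¹ by group, e2,
      show (g : G) * y⁻¹ * (g : G)⁻¹ = ((g : G) * y * (g : G)⁻¹)⁻¹ by group, ← hn]
    interval_cases n
    · exfalso
      rw [pow_zero, eq_comm, conj_eq_one_iff] at hn
      have := hc.orderOf_y
      rw [← hy, hn, orderOf_one] at this
      omega
    · rw [pow_one]
      exact Or.inr ⟨rfl, hne⟩
    · refine Or.inl ⟨?_, ?_⟩
      · rw [inv_eq_iff_mul_eq_one, ← pow_succ]; exact h3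
      · intro e
        exact hne ((eq_inv_of_mul_eq_one_left (show y ^ 2 * y = 1 by rw [← pow_succ]; exact h3)).symm.trans e)
  rw [← (C.subgroupOf N).card_mul_index, hidx, Nat.card_congr (subgroupOfEquivOfLe hCN).toEquiv, mul_comm]

theorem five_dvd [Finite G] [IsSimpleGroup G] (hG : Nat.card G = 175560) :
    5 ∣ Nat.card (centralizer ({ι (mA yA)} : Set G)) := by
  obtain ⟨k, hk, hcard⟩ := hc.card_centralizer_y
  by_contra h5
  have h9 : ¬ 9 ∣ Nat.card G := by rw [hG]; norm_num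
  have hyC : ι (mA yA) ∈ centralizer ({ι (mA yA)} : Set G) := mem_centralizer_singleton_iff.2 rfl
  have h3 : 3 ∣ k := by
    have h32 : 3 ∣ 2 * k := by
      rw [← hcard]
      exact hc.orderOf_y ▸ orderOf_mk _ hyC ▸ orderOf_dvd_natCard _
    exact ((Nat.Prime.dvd_mul Nat.prime_three).1 h32).resolve_left (by norm_num)
  obtain ⟨j, rfl⟩ := h3
  have hG' : 2 * (3 * j) ∣ 175560 := hcard ▸ hG ▸ Subgroup.card_subgroup_dvd_card _
  have hj : j = 1 := by
    by_contra hj1
    obtain ⟨q, hq, hqj⟩ := Nat.exists_prime_and_dvd hj1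
    have hqd : q ∣ Nat.card (centralizer ({ι (mA yA)} : Set G)) :=
      hcard ▸ (hqj.mul_left 3).mul_left 2
    have hq29 : q ∣ 29260 := hqj.trans (Nat.dvd_of_mul_dvd_mul_left (show 0 < 6 by norm_num)
      (show 6 * j ∣ 6 * 29260 by rwa [show 6 * j = 2 * (3 * j) by ring]))
    have hq2 : q ≠ 2 := by
      rintro rfl
      exact Nat.two_dvd_ne_zero.2 (Nat.odd_iff.1 hk) (hqj.mul_left 3)
    have hq5 : q ≠ 5 := fun e => h5 (e ▸ hqd)
    have hqc : q = 7 ∨ q = 11 ∨ q = 19 := by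
      rw [show (29260 : ℕ) = 2 * 2 * 5 * 7 * 11 * 19 from rfl] at hq29
      have hp : ∀ p, p.Prime → q ∣ p → q = p := fun p hp h => (Nat.prime_dvd_prime_iff_eq hq hp).1 h
      rcases (hq.dvd_mul.1 hq29) with h | h
      · rcases hq.dvd_mul.1 h with h | h
        · rcases hq.dvd_mul.1 h with h | h
          · rcases hq.dvd_mul.1 h with h | h
            · rcases hq.dvd_mul.1 h with h | h <;> exact absurd (hp 2 Nat.prime_two h) hq2
            · exact absurd (hp 5 (by norm_num) h) hq5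
          · exact Or.inl (hp 7 (by norm_num) h)
        · exact Or.inr (Or.inl (hp 11 (by norm_num) h))
      · exact Or.inr (Or.inr (hp 19 (by norm_num) h))
    obtain ⟨x, -, hox, hx⟩ := hc.exists_centralized hq hq2 hqd (by
      rw [hG]; rcases hqc with rfl | rfl | rfl <;> norm_num)
    have hno : ∀ n : G, n * ι mT * n⁻¹ * x = x * (n * ι mT * n⁻¹) → False := by
      intro n e
      have e' : n⁻¹ * x * n * ι mT = ι mT * (n⁻¹ * x * n) := by
        calc n⁻¹ * x * n * ι mT = n⁻¹ * (x * (n * ι mT * n⁻¹)) * n := by group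
          _ = n⁻¹ * (n * ι mT * n⁻¹ * x) * n := by rw [e]
          _ = ι mT * (n⁻¹ * x * n) := by group
      obtain ⟨z, hz⟩ := hc.full _ e'
      have hd : q ∣ 30 := by
        rw [← hox, orderOf_dvd_iff_pow_eq_one, show x = n * (n⁻¹ * x * n) * n⁻¹ by group, conj_pow, ← hz,
          ← map_pow, (orders z).1, map_one]
        group
      rcases hqc with rfl | rfl | rfl <;> norm_num at hd
    rcases hx with e | ⟨-, e⟩
    · exact hno 1 (by simpa using e)
    · rcases e with e | e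
      · obtain ⟨n, -, hn⟩ := hc.transitive.1 2 (by decide)
        exact hno n (by rwa [hn])
      · obtain ⟨n, -, hn⟩ := hc.transitive.1 3 (by decide)
        exact hno n (by rwa [hn])
  subst hj
  haveI : Fact (Nat.Prime 3) := ⟨Nat.prime_three⟩
  obtain ⟨P, hP⟩ : ∃ P : Sylow 3 G, (P : Subgroup G) = zpowers (ι (mA yA)) :=
    ⟨Sylow.ofCard _ (by
      rw [Nat.card_zpowers, hc.orderOf_y, hG, show (175560 : ℕ) = 3 ^ 1 * 58520 from rfl,
        Nat.factorization_mul (by norm_num) (by norm_num), Nat.prime_three.factorization_pow, Finsupp.add_apply,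
        Finsupp.single_eq_same, Nat.factorization_eq_zero_of_not_dvd (by norm_num), add_zero, pow_one]), Sylow.coe_ofCard _ _⟩
  have hN := hc.card_normalizer_y
  rw [hcard, ← hP] at hN
  have hmul := (normalizer ((P : Subgroup G) : Set G)).card_mul_index
  rw [hN, hG] at hmul
  have e : Nat.card (Sylow 3 G) = (normalizer ((P : Subgroup G) : Set G)).index := P.card_eq_index_normalizer
  rw [← e] at hmul
  have := card_sylow_modEq_one 3 G
  unfold Nat.ModEq at this
  omega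

end Cent

/-- An element of order five outside the centraliser commutes with the element of order three. -/
theorem exists_relation [Finite G] [IsSimpleGroup G] (F : Frame ι h) (hG : Nat.card G = 175560) :
    ∃ i : Fin 4, fEl ι h i * ι (mA yA) = ι (mA yA) * fEl ι h i := by
  have hc := F.toCent
  obtain ⟨x, hxy, hox, hx⟩ := hc.exists_centralized (q := 5) (by norm_num) (by norm_num)
    (hc.five_dvd hG) (by rw [hG]; norm_num)
  have hx5 : x ^ 5 = 1 := hox ▸ pow_orderOf_eq_one x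
  rcases hx with e | ⟨einv, e⟩
  · exfalso
    obtain ⟨i, j, rfl⟩ := hc.centralizer_y_t hxy e.symm
    rw [← map_pow, map_eq_one_iff ι hc.inj] at hx5
    have key : ∀ (i : Fin 2) (j : Fin 3), (mT ^ i.1 * mA yA ^ j.1) ^ 5 = 1 → mT ^ i.1 * mA yA ^ j.1 = 1 := by
      decide +kernel
    rw [key i j hx5, map_one, orderOf_one] at hox
    omega
  have main : ∀ (n : ℕ) (u v : Fin 8), (lin 4 3)^[n] 1 = u → (lin 4 3)^[n] v = 1 → sv ι u * x = x * sv ι u →
      ∃ p : A5, h ^ n * ι (mA p) * (h ^ n)⁻¹ = x ∧ p ^ 5 = 1 ∧ p ≠ 1 ∧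
        vM v * mA p * vM v = (mA p)⁻¹ := by
    intro n u v hu hv hux
    set z := (h ^ n)⁻¹ * x * h ^ n with hz
    have hu' : h ^ n * ι mT * (h ^ n)⁻¹ = sv ι u := by rw [← hc.sv_one, F.conj_lin, hu]
    have hzt : z * ι mT = ι mT * z := by
      calc z * ι mT = (h ^ n)⁻¹ * (x * (h ^ n * ι mT * (h ^ n)⁻¹)) * h ^ n := by rw [hz]; group
        _ = (h ^ n)⁻¹ * (h ^ n * ι mT * (h ^ n)⁻¹ * x) * h ^ n := by rw [hu', hux]
        _ = ι mT * z := by rw [hz]; group
    obtain ⟨w, hw⟩ := F.full _ hzt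
    have hw5 : w ^ 5 = 1 := F.inj (by
      rw [map_pow, hw, map_one, hz, show (h ^ n)⁻¹ * x * h ^ n = (h ^ n)⁻¹ * x * ((h ^ n)⁻¹)⁻¹ by group, conj_pow,
        hx5]
      group)
    obtain ⟨p, rfl, hp5⟩ := five_mem w hw5
    have hxe : h ^ n * ι (mA p) * (h ^ n)⁻¹ = x := by rw [hw, hz]; group
    refine ⟨p, hxe, hp5, ?_, F.inj ?_⟩
    · rintro rfl
      rw [map_one, map_one] at hxe
      rw [← hxe] at hox
      simp at hox
    · have hv' : h ^ n * sv ι v * (h ^ n)⁻¹ = ι mT := by rw [F.conj_lin, hv, hc.sv_one]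
      rw [map_mul, map_mul, map_inv, hw, hz]
      show sv ι v * ((h ^ n)⁻¹ * x * h ^ n) * sv ι v = _
      have : sv ι v = (h ^ n)⁻¹ * ι mT * h ^ n := by rw [← hv']; group
      rw [this]
      calc (h ^ n)⁻¹ * ι mT * h ^ n * ((h ^ n)⁻¹ * x * h ^ n) * ((h ^ n)⁻¹ * ι mT * h ^ n)
          = (h ^ n)⁻¹ * (ι mT * x * ι mT) * h ^ n := by group
        _ = _ := by rw [einv]; group
  have fin : ∀ (n : ℕ) (p : A5) (k : Fin 5) (i : Fin 4), h ^ n * ι (mA p) * (h ^ n)⁻¹ = x →
      p ^ k.1 = pA i → h ^ n = kEl h i → fEl ι h i * ι (mA yA) = ι (mA yA) * fEl ι h i := by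
    intro n p k i hxe hk hn
    have : fEl ι h i = x ^ k.1 := by rw [fEl, ← hn, ← hk, map_pow, map_pow, ← conj_pow, hxe]
    rw [this]
    exact ((show Commute x (ι (mA yA)) from hxy).pow_left _).eq
  rcases e with e | e
  · obtain ⟨p, hxe, hp5, hp1, hv⟩ := main 1 2 5 (by decide +kernel) (by decide +kernel) e
    have hp : sA * p * sA = p⁻¹ := by
      have key : ∀ p : A5, vM 5 * mA p * vM 5 = mA (sA * p * sA) := by decide +kernel
      exact mA_injective (by rw [← key, hv, map_inv])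
    obtain ⟨k, hk | hk⟩ := five_first p hp5 hp1 hp
    · exact ⟨0, fin 1 p k 0 hxe hk (pow_one h)⟩
    · exact ⟨1, fin 1 p k 1 hxe hk (pow_one h)⟩
  · obtain ⟨p, hxe, hp5, hp1, hv⟩ := main 3 3 6 (by decide +kernel) (by decide +kernel) e
    have hp : rA * sA * p * (rA * sA) = p⁻¹ := by
      have key : ∀ p : A5, vM 6 * mA p * vM 6 = mA (rA * sA * p * (rA * sA)) := by decide +kernel
      exact mA_injective (by rw [← key, hv, map_inv])
    obtain ⟨k, hk | hk⟩ := five_second p hp5 hp1 hp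
    · exact ⟨2, fin 3 p k 2 hxe hk (by rw [pow_three']; rfl)⟩
    · exact ⟨3, fin 3 p k 3 hxe hk (by rw [pow_three']; rfl)⟩

end CfsgLib.Spor.J1Type
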