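import Cfsg.Agent.Lib.Spor.J1Type.Enum
import Cfsg.Agent.Lib.Spor.J1Type.Relation
import Cfsg.Agent.Lib.Char.J1.Structure
import Mathlib.GroupTheory.Subgroup.Simple

/-!
# Groups of Janko's first type of order 175560 are isomorphic
-/

set_option autoImplicit false

namespace CfsgLib.Spor.J1Type

open Subgroup CfsgLib.Spor.TC CfsgLib.Spor.HN CfsgLib.Invol.JTwo.Icosa

universe u v

variable {G : Type u} [Group G] {H : Type v} [Group H]

/-- All relators of the configuration hold. -/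
theorem Frame.rels [Finite G] [IsSimpleGroup G] {ι : M →* G} {h : G} (F : Frame ι h)
    (hG : Nat.card G = 175560) : ∀ r ∈ allRels 1, ev (gl ι h) r = 1 := by
  obtain ⟨i, hi⟩ := exists_relation F hG
  obtain rfl := config_eq_one F hi
  exact all_hold F hi

/-- Two groups of Janko's first type of order 175560 are isomorphic. -/
theorem nonempty_mulEquiv [Finite G] [IsSimpleGroup G] [Finite H] [IsSimpleGroup H] {ι : M →* G}
    {ι' : M →* H} (hc : Cent ι) (hc' : Cent ι') (hG : Nat.card G = 175560) (hH : Nat.card H = 175560) :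
    Nonempty (G ≃* H) := by
  classical
  obtain ⟨ι₁, h₁, F, -⟩ := exists_frame hc
  obtain ⟨ι₂, h₂, F', -⟩ := exists_frame hc'
  set P : G × H := (h₁, h₂) with hP
  set φ : M →* G × H := ι₁.prod ι₂ with hφ
  set Γ := closure ((φ.range : Set (G × H)) ∪ {P}) with hΓ
  have hφΓ : ∀ x, φ x ∈ Γ := fun x => subset_closure (Or.inl ⟨x, rfl⟩)
  let φ' : M →* Γ := φ.codRestrict Γ hφΓ
  let P' : Γ := ⟨P, subset_closure (Or.inr rfl)⟩
  have hgen : closure ((φ'.range : Set Γ) ∪ {P'}) = ⊤ := by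
    refine eq_top_iff.2 fun x hx0 => ?_
    clear hx0
    obtain ⟨x, hx⟩ := x
    induction hx using closure_induction with
    | mem y hy =>
      refine subset_closure ?_
      rcases hy with ⟨m, rfl⟩ | hy
      · exact Or.inl ⟨m, rfl⟩
      · exact Or.inr (Subtype.ext hy)
    | one => exact one_mem _
    | mul y z _ _ hy hz => exact mul_mem hy hz
    | inv y _ hy => exact inv_mem hy
  have hmap : ∀ {K : Type (max u v)} [Group K] (f : K →* G) (g : K →* H) (x : M →* K) (p : K),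
      f.comp x = ι₁ → g.comp x = ι₂ → f p = h₁ → g p = h₂ →
      ∀ r ∈ allRels 1, f (ev (gl x p) r) = 1 ∧ g (ev (gl x p) r) = 1 := by
    intro K _ f g x p e1 e2 e3 e4 r hr
    refine ⟨?_, ?_⟩
    · rw [← F.rels hG r hr, gl, gl, map_ev_letterVal, ← e1, ← e3]
      rfl
    · rw [← F'.rels hH r hr, gl, gl, map_ev_letterVal, ← e2, ← e4]
      rfl
  have hcard : Nat.card Γ ≤ 175560 := by
    refine card_le hgen fun r hr => ?_
    obtain ⟨e1, e2⟩ := hmap ((MonoidHom.fst G H).comp Γ.subtype) ((MonoidHom.snd G H).comp Γ.subtype) φ' P'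
      (MonoidHom.ext fun _ => rfl) (MonoidHom.ext fun _ => rfl) rfl rfl r hr
    exact Subtype.ext (Prod.ext e1 e2)
  let π₁ : Γ →* G := (MonoidHom.fst G H).comp Γ.subtype
  let π₂ : Γ →* H := (MonoidHom.snd G H).comp Γ.subtype
  have hs₁ : Function.Surjective π₁ := by
    rw [← MonoidHom.range_eq_top, eq_top_iff, ← F.closure_eq_top hG, closure_le]
    rintro y (⟨m, rfl⟩ | rfl)
    exacts [⟨φ' m, rfl⟩, ⟨P', rfl⟩]
  have hs₂ : Function.Surjective π₂ := by
    rw [← MonoidHom.range_eq_top, eq_top_iff, ← F'.closure_eq_top hH, closure_le]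
    rintro y (⟨m, rfl⟩ | rfl)
    exacts [⟨φ' m, rfl⟩, ⟨P', rfl⟩]
  exact ⟨(MulEquiv.ofBijective π₁ (hs₁.bijective_of_nat_card_le (hG.symm ▸ hcard))).symm.trans
    (MulEquiv.ofBijective π₂ (hs₂.bijective_of_nat_card_le (hH.symm ▸ hcard)))⟩

/-- A group of Janko's first type of order 175560 is the first Janko group. -/
theorem isoJ1 [Finite G] [IsSimpleGroup G] {ι : M →* G} (hc : Cent ι) (hG : Nat.card G = 175560) :
    Cfsg.Spor.IsoJ1 G := by
  open CfsgLib.Char.J1 in
  haveI := finite_J1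
  haveI : IsSimpleGroup ↥Cfsg.Spor.J1 := simple_J1
  obtain ⟨e⟩ := CfsgLib.Char.J1.centralizer_iso
  obtain ⟨ι', hc', -⟩ := exists_cent (t := CfsgLib.Char.J1.tInv) CfsgLib.Char.J1.orderOf_tInv
    (by rw [CfsgLib.Char.J1.card_eq]; norm_num) e
  exact nonempty_mulEquiv hc hc' hG CfsgLib.Char.J1.card_eq

end CfsgLib.Spor.J1Type
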