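import Cfsg.Agent.Lib.Spor.J1Type.Kill
import Cfsg.Agent.Lib.Spor.J1Type.Iso

/-!
# Groups of Janko's first type: the order and the isomorphism type
-/

set_option autoImplicit false

namespace CfsgLib.Spor.J1Type

open Subgroup

variable {G : Type*} [Group G] [Finite G]

/-- A 2-central involution with the centraliser of Janko's first group. -/
theorem not_sixteen {t : G} {P : Sylow 2 G} (hP : ∀ x ∈ P, x * t = t * x)
    (e : centralizer ({t} : Set G) ≃* Multiplicative (ZMod 2) × alternatingGroup (Fin 5)) :
    ¬ 16 ∣ Nat.card G := by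
  intro h
  have hle : (P : Subgroup G) ≤ centralizer ({t} : Set G) := fun x hx => mem_centralizer_singleton_iff.2 (hP x hx)
  have h16 : 16 ∣ Nat.card (P : Subgroup G) := by
    obtain ⟨Q, hQ⟩ := Sylow.exists_subgroup_card_pow_prime 2 (G := G) (n := 4) h
    obtain ⟨R, hR⟩ := (IsPGroup.of_card (p := 2) (n := 4) hQ).exists_le_sylow
    rw [P.card_eq_multiplicity, ← R.card_eq_multiplicity, ← show (2 : ℕ) ^ 4 = 16 from rfl, ← hQ]
    exact Subgroup.card_dvd_of_le hR
  have := h16.trans (Subgroup.card_dvd_of_le hle)
  rw [Nat.card_congr e.toEquiv, card_M] at this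
  norm_num at this

/-- The order of a group with such a centraliser. -/
theorem card_of_cent [IsSimpleGroup G] {ι : M →* G} (hc : Cent ι) : Nat.card G = 175560 := by
  haveI := Fintype.ofFinite G
  exact hc.card_eq

end CfsgLib.Spor.J1Type
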