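import Mathlib.Algebra.Order.Ring.Abs
import Mathlib.Data.Nat.Sqrt
import Mathlib.Data.Nat.Prime.Basic
import Mathlib.Tactic.LinearCombination
import Mathlib.Tactic.IntervalCases
import Mathlib.Tactic.Ring
import Mathlib.Tactic.Linarith

/-!
# Groups of Janko's first type: the Diophantine equations
-/

set_option autoImplicit false
set_option maxRecDepth 100000

namespace CfsgLib.Spor.J1Type.Arith

/-- Not the square of an integer. -/
def nonSq (D : ℤ) : Bool := decide (D < 0) || !(Nat.sqrt D.toNat * Nat.sqrt D.toNat == D.toNat)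

theorem no_root {c2 c1 c0 : ℤ} (h : nonSq (c1 * c1 - 4 * c2 * c0) = true) (v : ℤ) :
    c2 * v * v + c1 * v + c0 ≠ 0 := by
  intro e
  have hD : (2 * c2 * v + c1) * (2 * c2 * v + c1) = c1 * c1 - 4 * c2 * c0 := by linear_combination (4 * c2) * e
  simp only [nonSq, Bool.or_eq_true, decide_eq_true_eq, Bool.not_eq_true', beq_eq_false_iff_ne] at h
  rw [← hD] at h
  rcases h with h | h
  · nlinarith [mul_self_nonneg (2 * c2 * v + c1)]
  · exact h (by
      rw [← Int.natAbs_mul_self' (a := 2 * c2 * v + c1), ← Nat.cast_mul, Int.toNat_natCast, Nat.sqrt_eq])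

/-! ### The decomposition into nine -/

/-- The candidates. -/
def nineCands : List (ℤ × ℤ) :=
  [(-31, 775), (-11, 891), (-7, 1015), (-3, 1755), (1, 135), (5, 475), (9, 567), (29, 667)]

theorem nine_table : ∀ n ∈ List.range 1801, (fun a : ℤ => a % 4 = 1 → a + 1 ≠ 0 →
    (180 * a * (4 * a - 1)) % ((a + 1) * (a + 1)) = 0 →
    0 < 180 * a * (4 * a - 1) / ((a + 1) * (a + 1)) → (180 * a * (4 * a - 1) / ((a + 1) * (a + 1))) % 2 = 1 →
    (a, 180 * a * (4 * a - 1) / ((a + 1) * (a + 1))) ∈ nineCands) ((n : ℤ) - 901) := by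
  decide +kernel

theorem nine_quad : ∀ p ∈ nineCands, (fun m q : ℤ =>
    nonSq (((m * q - 4 * m - 1200 * q) * (q - 1) + 27 * m * q) * ((m * q - 4 * m - 1200 * q) * (q - 1) + 27 * m * q) -
      4 * (-(m * q - 4 * m - 1200 * q)) * (9 * m * q * (q - 1))) = true) p.2 (2 * p.1) := by
  decide +kernel

/-- The decomposition into nine is impossible. -/
theorem nine_false {m q v z : ℤ} (hm : 0 < m) (hodd : m % 2 = 1) (hq : q % 8 = 2)
    (h4 : m * (q + 2) * (q + 2) = 360 * q * (2 * q - 1)) (hz : z = q - 1 - v)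
    (h1 : m * q * v * z + 36 * m * q * v - 4 * m * v * z + 9 * m * q * z - 1200 * q * v * z = 0) : False := by
  obtain ⟨a, rfl⟩ : ∃ a, q = 2 * a := ⟨q / 2, by omega⟩
  have ha : a % 4 = 1 := by omega
  have hm' : m * ((a + 1) * (a + 1)) = 180 * a * (4 * a - 1) := by linarith [show
    m * (2 * a + 2) * (2 * a + 2) = 4 * (m * ((a + 1) * (a + 1))) by ring, show
    360 * (2 * a) * (2 * (2 * a) - 1) = 4 * (180 * a * (4 * a - 1)) by ring]
  have ha1 : a + 1 ≠ 0 := by omega
  have hd : (a + 1) ∣ 900 := ⟨m * (a + 1) - 720 * (a + 1) + 1620, by linear_combination (-1 : ℤ) * hm'⟩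
  have hb : (a + 1).natAbs ≤ 900 := Nat.le_of_dvd (by norm_num) (by simpa using Int.natAbs_dvd_natAbs.2 hd)
  have hne : (a + 1) * (a + 1) ≠ 0 := mul_ne_zero ha1 ha1
  have hdiv : 180 * a * (4 * a - 1) / ((a + 1) * (a + 1)) = m := by rw [← hm', Int.mul_ediv_cancel _ hne]
  have hmod : (180 * a * (4 * a - 1)) % ((a + 1) * (a + 1)) = 0 := by rw [← hm', Int.mul_emod_left]
  have hmem := nine_table (a + 901).toNat (List.mem_range.2 (by omega))
  rw [show ((a + 901).toNat : ℤ) - 901 = a by omega] at hmem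
  have hc := hmem ha ha1 hmod (by rwa [hdiv]) (by rwa [hdiv])
  rw [hdiv] at hc
  exact no_root (nine_quad _ hc) v (by subst hz; linear_combination h1)

/-! ### The decomposition into ten -/

/-- The candidates for `(e, m)`. -/
def tenCands : List (ℤ × ℤ) :=
  [(1, 135), (-7, 1015), (-55, 5775), (9, 567), (209, 1463), (-31, 775), (-15, 1575)]

/-- The test of a candidate. -/
def tenTest (a s k : ℤ) : Bool :=
  !(decide (0 < (s - 1) * k) && ((s - 1) * k % 2 == 1) && ((s - a) % 8 == 5) && (s % 8 == 2) &&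
    (5 * ((s - 1) * k) % a == 0) && (5 * ((s - 1) * k) % (s - a) == 0) &&
    (25 * s * k * (s - 1) == a * (s - a) * (s * k - 720))) || tenCands.contains (s - 1, (s - 1) * k)

/-- The test of a divisor. -/
def smallTest (a s : ℤ) : Bool :=
  if s * (25 * (s - 1) - a * (s - a)) == 0 then true
  else if (-720 * a * (s - a)) % (s * (25 * (s - 1) - a * (s - a))) == 0 then
    tenTest a s ((-720 * a * (s - a)) / (s * (25 * (s - 1) - a * (s - a)))) else true

theorem small_table : (List.range 25).all (fun n => (fun a : ℤ => (List.range 672).all fun i =>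
    if 45 * a * a % (i : ℤ) == 0 then
      smallTest a (2 * (i : ℤ)) && smallTest a (-(2 * (i : ℤ))) &&
        smallTest a (2 * (45 * a * a / (i : ℤ))) && smallTest a (-(2 * (45 * a * a / (i : ℤ))))
    else true) (8 * (n : ℤ) - 99)) = true := by
  decide +kernel

/-- The test of a product. -/
def prodTest (s k : ℤ) : Bool :=
  if s * k - 720 == 0 then true
  else if (25 * (s * k) * (s - 1)) % (s * k - 720) == 0 then
    (fun di : ℤ => if decide (0 ≤ di) && ((Nat.sqrt di.toNat * Nat.sqrt di.toNat) == di.toNat) then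
      (fun r : ℤ => tenTest ((s + r) / 2) s k && tenTest ((s - r) / 2) s k) (Nat.sqrt di.toNat : ℤ) else true)
      (s * s - 4 * ((25 * (s * k) * (s - 1)) / (s * k - 720)))
  else true

theorem prod_table : (List.range 720).all (fun i => (List.range (719 / i + 1)).all fun l =>
    prodTest (2 * (i : ℤ)) (l : ℤ) && prodTest (2 * (i : ℤ)) (-(l : ℤ)) &&
      prodTest (-(2 * (i : ℤ))) (l : ℤ) && prodTest (-(2 * (i : ℤ))) (-(l : ℤ))) = true := by
  decide +kernel

theorem of_tenTest {a s k : ℤ} (h : tenTest a s k = true) (hm : 0 < (s - 1) * k) (hodd : (s - 1) * k % 2 = 1)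
    (hb : (s - a) % 8 = 5) (hs : s % 8 = 2) (ha5 : a ∣ 5 * ((s - 1) * k)) (hb5 : (s - a) ∣ 5 * ((s - 1) * k))
    (heq : 25 * s * k * (s - 1) = a * (s - a) * (s * k - 720)) : (s - 1, (s - 1) * k) ∈ tenCands := by
  have h1 : decide (0 < (s - 1) * k) = true := decide_eq_true hm
  have h2 : ((s - 1) * k % 2 == 1) = true := beq_iff_eq.2 hodd
  have h3 : ((s - a) % 8 == 5) = true := beq_iff_eq.2 hb
  have h4 : (s % 8 == 2) = true := beq_iff_eq.2 hs
  have h5 : (5 * ((s - 1) * k) % a == 0) = true := beq_iff_eq.2 (Int.emod_eq_zero_of_dvd ha5)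
  have h6 : (5 * ((s - 1) * k) % (s - a) == 0) = true := beq_iff_eq.2 (Int.emod_eq_zero_of_dvd hb5)
  have h7 : (25 * s * k * (s - 1) == a * (s - a) * (s * k - 720)) = true := beq_iff_eq.2 heq
  rw [tenTest, h1, h2, h3, h4, h5, h6, h7] at h
  simpa using h

/-- The hypotheses on a solution. -/
structure Ten (a b s k : ℤ) : Prop where
  hm : 0 < (s - 1) * k
  hodd : (s - 1) * k % 2 = 1
  ha : a % 8 = 5
  hb : b % 8 = 5
  hsum : a + b = s
  hs : s % 8 = 2
  ha5 : a ∣ 5 * ((s - 1) * k)
  hb5 : b ∣ 5 * ((s - 1) * k)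
  heq : 25 * s * k * (s - 1) = a * b * (s * k - 720)

theorem Ten.swap {a b s k : ℤ} (h : Ten a b s k) : Ten b a s k :=
  ⟨h.hm, h.hodd, h.hb, h.ha, by rw [add_comm]; exact h.hsum, h.hs, h.hb5, h.ha5, by rw [h.heq, mul_comm a b]⟩

theorem Ten.small {a b s k : ℤ} (h : Ten a b s k) (hle : a.natAbs ≤ 100) : (s - 1, (s - 1) * k) ∈ tenCands := by
  obtain ⟨hm, hodd, ha, hb, hsum, hs, ha5, hb5, heq⟩ := h
  obtain rfl : b = s - a := by omega
  obtain ⟨s', hs'⟩ : ∃ s', s = 2 * s' := ⟨s / 2, by omega⟩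
  have hdvd : s ∣ 720 * a * a := ⟨25 * k * (s - 1) - a * (s - a) * k + 720 * a, by linear_combination (-1 : ℤ) * heq⟩
  have hodd' : s'.natAbs % 2 = 1 := by omega
  have h45 : s' ∣ 45 * a * a := by
    have h1 : s' ∣ 2 ^ 4 * (45 * a * a) := (show s' ∣ s from ⟨2, by rw [hs']; ring⟩).trans
      (by rwa [show (720 : ℤ) * a * a = 2 ^ 4 * (45 * a * a) by ring] at hdvd)
    refine Int.dvd_of_dvd_mul_right_of_gcd_one h1 ?_
    rw [Int.gcd, show ((2 : ℤ) ^ 4).natAbs = 2 ^ 4 from rfl]
    exact Nat.Coprime.pow_right _ (Nat.coprime_two_right.2 (Nat.odd_iff.2 hodd'))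
  have hk : s * (25 * (s - 1) - a * (s - a)) * k = -720 * a * (s - a) := by linear_combination heq
  have hden : s * (25 * (s - 1) - a * (s - a)) ≠ 0 := by
    intro e
    rw [e, zero_mul] at hk
    rcases mul_eq_zero.1 hk.symm with h | h <;> omega
  have hsm : smallTest a s = true := by
    obtain ⟨c, hc⟩ := h45
    set M := 45 * a * a with hM
    have hMpos : 0 < M := by
      have : a ≠ 0 := by omega
      rw [hM, mul_assoc]
      exact mul_pos (by norm_num) (mul_self_pos.2 this)
    have hMle : M ≤ 450000 := by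
      have h2 : a ≤ 100 := by omega
      have h3 : -100 ≤ a := by omega
      rw [hM]
      nlinarith
    have hn : (a + 99).toNat / 8 < 25 := by omega
    have htab := List.all_eq_true.1 small_table _ (List.mem_range.2 hn)
    rw [show 8 * (((a + 99).toNat / 8 : ℕ) : ℤ) - 99 = a by omega] at htab
    have hs'0 : s' ≠ 0 := by omega
    have hc0 : c ≠ 0 := by rintro rfl; rw [mul_zero] at hc; omega
    have hprod : (s'.natAbs : ℤ) * (c.natAbs : ℤ) = M := by
      rw [← Nat.cast_mul, ← Int.natAbs_mul, ← hc, Int.natAbs_of_nonneg hMpos.le]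
    obtain ⟨i, j, hij, hi, hcase⟩ : ∃ i j : ℕ, (i : ℤ) * (j : ℤ) = M ∧ i < 672 ∧
        (s'.natAbs = i ∨ s'.natAbs = j) := by
      rcases Nat.le_total s'.natAbs c.natAbs with hle' | hle'
      · refine ⟨_, _, hprod, ?_, Or.inl rfl⟩
        have : (s'.natAbs : ℤ) * (s'.natAbs : ℤ) ≤ M := by
          rw [← hprod]; exact mul_le_mul_of_nonneg_left (by exact_mod_cast hle') (by omega)
        by_contra hge
        have : (672 : ℤ) * 672 ≤ (s'.natAbs : ℤ) * (s'.natAbs : ℤ) :=
          mul_le_mul (by omega) (by omega) (by norm_num) (by omega)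
        omega
      · refine ⟨_, _, by rw [mul_comm]; exact hprod, ?_, Or.inr rfl⟩
        have : (c.natAbs : ℤ) * (c.natAbs : ℤ) ≤ M := by
          rw [← hprod]; exact mul_le_mul_of_nonneg_right (by exact_mod_cast hle') (by omega)
        by_contra hge
        have : (672 : ℤ) * 672 ≤ (c.natAbs : ℤ) * (c.natAbs : ℤ) :=
          mul_le_mul (by omega) (by omega) (by norm_num) (by omega)
        omega
    have hi0 : (i : ℤ) ≠ 0 := by intro e; rw [e, zero_mul] at hij; omega
    have hit := List.all_eq_true.1 htab i (List.mem_range.2 hi)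
    rw [if_pos (beq_iff_eq.2 (by rw [← hM, ← hij, Int.mul_emod_right]))] at hit
    rw [show 45 * a * a / (i : ℤ) = (j : ℤ) by rw [← hM, ← hij, Int.mul_ediv_cancel_left _ hi0]] at hit
    simp only [Bool.and_eq_true] at hit
    obtain ⟨⟨⟨t1, t2⟩, t3⟩, t4⟩ := hit
    rw [hs']
    rcases hcase with e | e <;> rcases Int.natAbs_eq s' with e' | e' <;> rw [e', e]
    · exact t1
    · rw [mul_neg]; exact t2
    · exact t3
    · rw [mul_neg]; exact t4
  rw [smallTest, if_neg (by simpa using hden), ← hk,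
    if_pos (beq_iff_eq.2 (Int.mul_emod_right _ _)), Int.mul_ediv_cancel_left _ hden] at hsm
  exact of_tenTest hsm hm hodd hb hs ha5 hb5 heq

theorem Ten.prod {a b s k : ℤ} (h : Ten a b s k) (hle : (s * k).natAbs < 1440) :
    (s - 1, (s - 1) * k) ∈ tenCands := by
  obtain ⟨hm, hodd, ha, hb, hsum, hs, ha5, hb5, heq⟩ := h
  obtain rfl : b = s - a := by omega
  obtain ⟨s', hs'⟩ : ∃ s', s = 2 * s' := ⟨s / 2, by omega⟩
  have hprod : s'.natAbs * k.natAbs ≤ 719 := by
    have e : (s * k).natAbs = 2 * (s'.natAbs * k.natAbs) := by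
      rw [hs', Int.natAbs_mul, Int.natAbs_mul]; norm_num [mul_assoc]
    omega
  have hs0 : 0 < s'.natAbs := by omega
  have hk0 : k ≠ 0 := by rintro rfl; simp at hm
  have hk1 : 0 < k.natAbs := Int.natAbs_pos.2 hk0
  have hi : s'.natAbs < 720 := by nlinarith
  have htab := List.all_eq_true.1 prod_table _ (List.mem_range.2 hi)
  have hit := List.all_eq_true.1 htab k.natAbs
    (List.mem_range.2 (Nat.lt_succ_of_le ((Nat.le_div_iff_mul_le hs0).2 (by rw [mul_comm]; exact hprod))))
  simp only [Bool.and_eq_true] at hit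
  obtain ⟨⟨⟨t1, t2⟩, t3⟩, t4⟩ := hit
  have hpt : prodTest s k = true := by
    rw [hs']
    rcases Int.natAbs_eq s' with e | e <;> rcases Int.natAbs_eq k with e' | e' <;> rw [e, e']
    · exact t1
    · exact t2
    · rw [mul_neg]; exact t3
    · rw [mul_neg]; exact t4
  have hne : s * k - 720 ≠ 0 := by
    intro e
    rw [e, mul_zero] at heq
    rcases mul_eq_zero.1 heq with h | h
    · rcases mul_eq_zero.1 h with h | h <;> omega
    · omega
  have hP : 25 * (s * k) * (s - 1) = (s * k - 720) * (a * (s - a)) := by linear_combination heq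
  rw [prodTest, if_neg (by simpa using hne), hP, if_pos (beq_iff_eq.2 (Int.mul_emod_right _ _)),
    Int.mul_ediv_cancel_left _ hne] at hpt
  have hdi : s * s - 4 * (a * (s - a)) = (2 * a - s) * (2 * a - s) := by ring
  have hnat : ((2 * a - s) * (2 * a - s)).toNat = (2 * a - s).natAbs * (2 * a - s).natAbs := by
    rw [← Int.natAbs_mul_self' (a := 2 * a - s), ← Nat.cast_mul, Int.toNat_natCast]
  simp only [hdi, hnat, Nat.sqrt_eq, decide_eq_true (mul_self_nonneg (2 * a - s)), beq_self_eq_true,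
    Bool.and_self, if_true, Bool.and_eq_true] at hpt
  obtain ⟨u1, u2⟩ := hpt
  rcases le_total (2 * a - s) 0 with hneg | hpos
  · rw [show (s - ((2 * a - s).natAbs : ℤ)) / 2 = a by omega] at u2
    exact of_tenTest u2 hm hodd hb hs ha5 hb5 heq
  · rw [show (s + ((2 * a - s).natAbs : ℤ)) / 2 = a by omega] at u1
    exact of_tenTest u1 hm hodd hb hs ha5 hb5 heq

theorem Ten.cands {a b s k : ℤ} (h : Ten a b s k) : (s - 1, (s - 1) * k) ∈ tenCands := by
  by_cases hle : (s * k).natAbs < 1440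
  · exact h.prod hle
  by_cases ha : a.natAbs ≤ 100
  · exact h.small ha
  by_cases hb : b.natAbs ≤ 100
  · exact h.swap.small hb
  exfalso
  obtain ⟨-, -, -, -, hsum, hs, -, -, heq⟩ := h
  have habs : |a * b| * |s * k - 720| = 25 * (|s * k| * |s - 1|) := by
    rw [← abs_mul, ← heq, show 25 * s * k * (s - 1) = 25 * ((s * k) * (s - 1)) by ring, abs_mul, abs_mul]
    norm_num
  have hj : |s * k| ≤ 2 * |s * k - 720| := by
    have h1 : (1440 : ℤ) ≤ |s * k| := by rw [Int.abs_eq_natAbs]; omega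
    have h2 : |s * k| - 720 ≤ |s * k - 720| := by
      have := abs_sub_abs_le_abs_sub (s * k) 720
      rwa [abs_of_pos (show (0 : ℤ) < 720 by norm_num)] at this
    linarith
  have hpos : 0 < |s * k - 720| := abs_pos.2 (by omega)
  have hab : |a * b| ≤ 50 * |s - 1| := by
    refine le_of_mul_le_mul_right ?_ hpos
    rw [habs]
    nlinarith [mul_le_mul_of_nonneg_right hj (abs_nonneg (s - 1))]
  rw [abs_mul] at hab
  have ha' : 101 ≤ |a| := by rw [Int.abs_eq_natAbs]; omega
  have hb' : 101 ≤ |b| := by rw [Int.abs_eq_natAbs]; omega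
  have hs1 : |s| ≤ |a| + |b| := hsum ▸ abs_add_le a b
  have hs2 : |s - 1| ≤ |s| + 1 := by
    have := abs_sub s 1
    simpa using this
  nlinarith

theorem ten_quad : ∀ p ∈ tenCands, p = (209, 1463) ∨ p = (-15, 1575) ∨ (fun e m : ℤ =>
    nonSq (((m * e + m - 1200 * e) * (-e - 1)) * ((m * e + m - 1200 * e) * (-e - 1)) -
      4 * (-(m * e + m - 1200 * e)) * (9 * (-e - 1) * e * m)) = true) p.1 p.2 := by
  decide +kernel

/-- The decomposition into ten determines the order. -/
theorem ten_cases {a b e m c d : ℤ} (hm : 0 < m) (hodd : m % 2 = 1) (ha : a % 8 = 5) (hb : b % 8 = 5)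
    (he : e ∣ m) (he0 : e ≠ 0) (hsum : a + b = 1 + e) (he8 : e % 8 = 1) (ha5 : a ∣ 5 * m) (hb5 : b ∣ 5 * m)
    (h4 : 25 * (1 + e) * e * m = a * b * ((1 + e) * m - 720 * e)) (hcd : c + d = -(1 + e))
    (h1 : (m * e + m - 1200 * e) * (c * d) + 9 * (c + d) * e * m = 0) :
    m = 1463 ∨ (m = 1575 ∧ e = -15 ∧ (a = -35 ∧ b = 21 ∨ a = 21 ∧ b = -35)) := by
  obtain ⟨k, rfl⟩ := he
  have ht : Ten a b (1 + e) k := by
    refine ⟨?_, ?_, ha, hb, hsum, by omega, ?_, ?_, ?_⟩
    all_goals rw [show 1 + e - 1 = e by ring]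
    · exact hm
    · exact hodd
    · exact ha5
    · exact hb5
    · refine mul_left_cancel₀ he0 ?_
      linear_combination h4
  have hc := ht.cands
  rw [show 1 + e - 1 = e by ring] at hc
  rcases ten_quad _ hc with h | h | h
  · exact Or.inl (Prod.mk.inj h).2
  · obtain ⟨rfl, h2⟩ := Prod.mk.inj h
    refine Or.inr ⟨h2, rfl, ?_⟩
    rw [h2] at h4
    have hab : (a - 21) * (a + 35) = 0 := by
      have hb' : b = -14 - a := by omega
      subst hb'
      have : a * (-14 - a) = -735 := by nlinarith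
      linear_combination -this
    rcases mul_eq_zero.1 hab with h' | h' <;> omega
  · exfalso
    obtain rfl : d = -(1 + e) - c := by omega
    exact no_root h c (by linear_combination h1)

end CfsgLib.Spor.J1Type.Arith
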