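import Cfsg.Agent.Lib.Spor.J1Type.System
import Cfsg.Agent.Lib.Spor.J1Type.Arith

/-!
# Groups of Janko's first type: the order up to one exceptional case
-/

set_option autoImplicit false
set_option linter.unusedSectionVars false
set_option maxRecDepth 10000

namespace CfsgLib.Spor.J1Type

open Cfsg CfsgLib.Char CfsgLib.Char.Signed CfsgLib.Char.GramSearch CfsgLib.Invol.JTwo.Icosa

universe u

/-- A row and a degree, up to a common sign. -/
def Nm (p : List ℤ × ℤ) : List ℤ × ℤ := if isNeg p.1 then (p.1.map (-·), -p.2) else p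

theorem getD_neg : ∀ (r : List ℤ) (i : ℕ), (r.map (-·)).getD i 0 = -r.getD i 0
  | [], i => by simp
  | a :: r, 0 => by simp
  | a :: r, i + 1 => by simpa using getD_neg r i

theorem rowT_neg (r : List ℤ) : rowT (r.map (-·)) = -rowT r := by simp only [rowT, getD_neg]; ring

theorem rowY_neg (r : List ℤ) : rowY (r.map (-·)) = -rowY r := by simp only [rowY, getD_neg]; ring

theorem galRow_neg (r : List ℤ) : galRow (r.map (-·)) = (galRow r).map (-·) := by
  simp only [galRow, getD_neg, List.map_cons, List.map_nil]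
  congr 4
  ring

theorem Nm_fst (p : List ℤ × ℤ) : (Nm p).1 = normRow p.1 := by unfold Nm normRow; split_ifs <;> rfl

theorem neg_neg_row (q : List ℤ) : (q.map (-·)).map (-·) = q := by simp [List.map_map]

theorem isNeg_neg : ∀ q : List ℤ, (∃ a ∈ q, a ≠ 0) → isNeg (q.map (-·)) = !isNeg q
  | [], h => by simp at h
  | a :: q, h => by
    by_cases ha : a = 0
    · subst ha
      simp only [List.map_cons, isNeg, neg_zero, if_true]
      exact isNeg_neg q (by obtain ⟨b, hb, hb0⟩ := h; exact ⟨b, (List.mem_cons.1 hb).resolve_left hb0, hb0⟩)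
    · simp only [List.map_cons, isNeg, neg_eq_zero, ha, if_false]
      rcases lt_or_gt_of_ne ha with h' | h' <;>
        simp [h', h'.le, not_lt.2 h'.le]

theorem Nm_neg {q : List ℤ} (h : ∃ a ∈ q, a ≠ 0) (d : ℤ) : Nm (q.map (-·), -d) = Nm (q, d) := by
  cases hn : isNeg q <;> simp [Nm, isNeg_neg q h, hn]

theorem galRow_mem {r : List ℤ} (h : ∃ j : Fin 5, r.getD j.1 0 ≠ 0) : ∃ a ∈ galRow r, a ≠ 0 := by
  obtain ⟨j, hj⟩ := h
  by_contra hno
  push Not at hno
  refine galRow_ne r j hj ?_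
  simp only [galRow, List.forall_mem_cons] at hno
  obtain ⟨h0, h1, h2, h3, h4, -⟩ := hno
  simp only [galRow, h0, h1, h2, h3, h4]

/-- The arithmetical system, up to signs. -/
structure NSys (m : ℤ) (L : List (List ℤ × ℤ)) : Prop where
  odd : m % 2 = 1
  pos : 0 < m
  each : ∀ p ∈ L, p.2 ≠ 0 ∧ (p.2 - rowT p.1) % 8 = 0 ∧ p.2 ∣ m * rowT p.1 ∧ p.2 ∣ 20 * (m * rowY p.1) ∧
    (p.1.getD 0 0 ≠ 0 → p.2 = p.1.getD 0 0)
  lin : ∀ j : Fin 4, (L.map fun p => p.1.getD (j.1 + 1) 0 * p.2).sum = 0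
  quad : ∀ j : Fin 4, (L.map fun p => (p.1.getD (j.1 + 1) 0 : ℚ) * (rowT p.1 : ℚ) ^ 2 / (p.2 : ℚ)).sum =
    (pairS j : ℚ) / (m : ℚ)
  gal : ∀ p ∈ L, (∃ j : Fin 5, p.1.getD j.1 0 ≠ 0) → Nm (galRow p.1, p.2) ∈ L

theorem NSys.perm {m : ℤ} {L L' : List (List ℤ × ℤ)} (h : NSys m L) (hp : L.Perm L') : NSys m L' :=
  ⟨h.odd, h.pos, fun p hp' => h.each p (hp.symm.subset hp'),
    fun j => by rw [← (hp.map _).sum_eq]; exact h.lin j,
    fun j => by rw [← (hp.map _).sum_eq]; exact h.quad j,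
    fun p hp' hne => hp.subset (h.gal p (hp.symm.subset hp') hne)⟩

theorem NSys.of_sys {m : ℤ} {L : List (List ℤ × ℤ)} (h : Sys m L) : NSys m (L.map Nm) := by
  refine ⟨h.odd, h.pos, ?_, fun j => ?_, fun j => ?_, ?_⟩
  · intro p hp
    obtain ⟨q, hq, rfl⟩ := List.mem_map.1 hp
    obtain ⟨h1, h2, h3, h4, h5⟩ := h.each q hq
    unfold Nm
    split_ifs
    · refine ⟨neg_ne_zero.2 h1, ?_, ?_, ?_, ?_⟩
      · rw [rowT_neg]; show (-q.2 - -rowT q.1) % 8 = 0; omega
      · rw [rowT_neg, mul_neg]; exact (dvd_neg.2 h3).neg_left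
      · rw [rowY_neg, mul_neg, mul_neg]; exact (dvd_neg.2 h4).neg_left
      · simp only [getD_neg]; intro hne; rw [h5 (neg_ne_zero.1 hne)]
    · exact ⟨h1, h2, h3, h4, h5⟩
  · refine Eq.trans ?_ (h.lin j)
    rw [List.map_map]
    congr 1
    refine List.map_congr_left fun q _ => ?_
    simp only [Function.comp, Nm]
    split_ifs
    · simp only [getD_neg]; ring
    · rfl
  · refine Eq.trans ?_ (h.quad j)
    rw [List.map_map]
    congr 1
    refine List.map_congr_left fun q _ => ?_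
    simp only [Function.comp, Nm]
    split_ifs
    · simp only [getD_neg, rowT_neg]; push_cast; rw [neg_sq, neg_mul, neg_div_neg_eq]
    · rfl
  · intro p hp hne
    obtain ⟨q, hq, rfl⟩ := List.mem_map.1 hp
    have hne' : ∃ j : Fin 5, q.1.getD j.1 0 ≠ 0 := by
      obtain ⟨j, hj⟩ := hne
      refine ⟨j, ?_⟩
      unfold Nm at hj
      split_ifs at hj
      · rwa [getD_neg, neg_ne_zero] at hj
      · exact hj
    have hgm := galRow_mem hne'
    have e : Nm (galRow (Nm q).1, (Nm q).2) = Nm (galRow q.1, q.2) := by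
      by_cases hq' : isNeg q.1 = true
      · rw [show Nm q = (q.1.map (-·), -q.2) from if_pos hq', galRow_neg, Nm_neg hgm]
      · rw [show Nm q = q from if_neg hq']
    rw [e]
    rcases h.gal q hq hne' with h' | h'
    · exact List.mem_map_of_mem h'
    · exact List.mem_map.2 ⟨_, h', Nm_neg hgm _⟩

theorem exists_of_perm_map {α β : Type*} (f : α → β) :
    ∀ {l₂ : List β} {l : List α}, (l.map f).Perm l₂ → ∃ l' : List α, l'.Perm l ∧ l'.map f = l₂
  | [], l, h => ⟨l, List.Perm.refl l, List.Perm.eq_nil h⟩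
  | b :: t, l, h => by
    classical
    obtain ⟨a, ha, rfl⟩ := List.mem_map.1 (h.symm.subset List.mem_cons_self)
    have hl := List.perm_cons_erase ha
    obtain ⟨l', hl', hm⟩ := exists_of_perm_map f
      (List.Perm.cons_inv (a := f a) (((hl.map f).symm.trans h) : ((a :: l.erase a).map f).Perm (f a :: t)))
    exact ⟨a :: l', (hl'.cons a).trans hl.symm, by rw [List.map_cons, hm]⟩

theorem sum_filter_map {α : Type*} (L : List α) (P : α → Bool) (g : α → ℤ) (h : ∀ p, P p = false → g p = 0) :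
    (L.map g).sum = ((L.filter P).map g).sum := by
  induction L with
  | nil => rfl
  | cons a L ih => cases hP : P a <;> simp [hP, ih, h a]

theorem sum_filter_mapQ {α : Type*} (L : List α) (P : α → Bool) (g : α → ℚ) (h : ∀ p, P p = false → g p = 0) :
    (L.map g).sum = ((L.filter P).map g).sum := by
  induction L with
  | nil => rfl
  | cons a L ih => cases hP : P a <;> simp [hP, ih, h a]

theorem not_lone {m : ℤ} {L : List (List ℤ × ℤ)} (h : Sys m L) : lone (L.map Prod.fst) ≠ true := by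
  intro hl
  simp only [lone, List.any_eq_true, beq_iff_eq, List.filter_map, List.length_map] at hl
  obtain ⟨j, hj, hlen⟩ := hl
  obtain ⟨i, rfl⟩ : ∃ i : Fin 4, j = i.1 + 1 := by
    simp only [List.mem_cons, List.not_mem_nil, or_false] at hj
    exact ⟨⟨j - 1, by omega⟩, by simp; omega⟩
  obtain ⟨p, hp⟩ := List.length_eq_one_iff.1 hlen
  have hpm : p ∈ L.filter ((fun r : List ℤ => !(r.getD (i.1 + 1) 0 == 0)) ∘ Prod.fst) := by
    rw [hp]; exact List.mem_singleton_self p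
  obtain ⟨hpL, hr⟩ := List.mem_filter.1 hpm
  have e := h.lin i
  rw [sum_filter_map L ((fun r : List ℤ => !(r.getD (i.1 + 1) 0 == 0)) ∘ Prod.fst) _ (fun q hq => by
    simp only [Function.comp, Bool.not_eq_false', beq_iff_eq] at hq
    rw [hq, zero_mul]), hp] at e
  simp only [Function.comp, Bool.not_eq_true', beq_eq_false_iff_ne] at hr
  simp only [List.map_cons, List.map_nil, List.sum_cons, List.sum_nil, add_zero] at e
  rcases mul_eq_zero.1 e with e' | e'
  · exact hr e'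
  · exact (h.each p hpL).1 e'

theorem not_eight {m : ℤ} {L : List (List ℤ × ℤ)} (h : Sys m L) : eight (L.map Prod.fst) ≠ true := by
  intro hl
  simp only [eight, List.any_eq_true, List.mem_map, Bool.and_eq_true, beq_iff_eq] at hl
  obtain ⟨_, ⟨p, hp, rfl⟩, hT, hY⟩ := hl
  obtain ⟨-, h2, -, h4, -⟩ := h.each p hp
  have h8 : (8 : ℤ) ∣ 20 * (m * rowY p.1) := dvd_trans (Int.dvd_of_emod_eq_zero (by omega)) h4
  have hodd : (m * rowY p.1) % 2 = 1 := by rw [Int.mul_emod, h.odd, hY]; rfl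
  omega

theorem not_unequal {m : ℤ} {L : List (List ℤ × ℤ)} (h : Sys m L) : unequal (L.map Prod.fst) ≠ true := by
  intro hl
  simp only [unequal, List.filter_map] at hl
  rcases hL : L.filter ((fun r : List ℤ => !(r.getD 1 0 == 0)) ∘ Prod.fst) with _ | ⟨p, _ | ⟨q, _ | ⟨x, t⟩⟩⟩ <;>
    rw [hL] at hl <;> simp only [List.map_cons, List.map_nil, Bool.false_eq_true] at hl
  simp only [Bool.and_eq_true, Bool.not_eq_true', beq_eq_false_iff_ne, beq_iff_eq] at hl
  obtain ⟨⟨hne, hp1⟩, hq1⟩ := hl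
  have hmem : ∀ y ∈ [p, q], y ∈ L := fun y hy => (List.mem_filter.1 (hL.symm ▸ hy)).1
  have e1 := h.lin 0
  have e2 := h.quad 0
  rw [sum_filter_map L ((fun r : List ℤ => !(r.getD 1 0 == 0)) ∘ Prod.fst) _ (fun q hq => by
    simp only [Function.comp, Bool.not_eq_false', beq_iff_eq] at hq
    show q.1.getD 1 0 * q.2 = 0
    rw [hq, zero_mul]), hL] at e1
  rw [sum_filter_mapQ L ((fun r : List ℤ => !(r.getD 1 0 == 0)) ∘ Prod.fst) _ (fun q hq => by
    simp only [Function.comp, Bool.not_eq_false', beq_iff_eq] at hq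
    show (q.1.getD 1 0 : ℚ) * _ / _ = 0
    rw [hq]; simp), hL] at e2
  simp only [List.map_cons, List.map_nil, List.sum_cons, List.sum_nil, add_zero, Fin.val_zero, zero_add,
    pairS, Matrix.cons_val_zero, Int.cast_zero, zero_div] at e1 e2
  have hpd : (p.2 : ℚ) ≠ 0 := Int.cast_ne_zero.2 (h.each p (hmem p (by simp))).1
  have hqd : (q.2 : ℚ) ≠ 0 := Int.cast_ne_zero.2 (h.each q (hmem q (by simp))).1
  have hp1' : (p.1.getD 1 0 : ℚ) * (p.1.getD 1 0 : ℚ) = 1 := by exact_mod_cast hp1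
  have hq1' : (q.1.getD 1 0 : ℚ) * (q.1.getD 1 0 : ℚ) = 1 := by exact_mod_cast hq1
  have e1' : (p.1.getD 1 0 : ℚ) * p.2 + (q.1.getD 1 0 : ℚ) * q.2 = 0 := by exact_mod_cast e1
  field_simp at e2
  generalize (p.1.getD 1 0 : ℚ) = r at *
  generalize (q.1.getD 1 0 : ℚ) = s at *
  refine hne ?_
  have key : ((rowT p.1 : ℚ) * rowT p.1 - (rowT q.1 : ℚ) * rowT q.1) * (p.2 : ℚ) = 0 := by
    have hq' : (q.2 : ℚ) = -(s * r) * p.2 := by linear_combination s * e1' - (q.2 : ℚ) * hq1'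
    rw [hq'] at e2
    linear_combination (-s) * e2 + (-((rowT p.1 : ℚ) * rowT p.1 * p.2 * (s * s))) * hp1' +
      ((rowT q.1 : ℚ) * rowT q.1 * p.2 - (rowT p.1 : ℚ) * rowT p.1 * p.2) * hq1'
  have := (mul_eq_zero.1 key).resolve_right hpd
  exact_mod_cast sub_eq_zero.1 this

theorem not_nine {m : ℤ} {L : List (List ℤ × ℤ)} (h : NSys m L) (e : L.map Prod.fst = nine) : False := by
  rcases L with _ | ⟨⟨r0, d0⟩, _ | ⟨⟨r1, A⟩, _ | ⟨⟨r2, p⟩, _ | ⟨⟨r3, q⟩, _ | ⟨⟨r4, β⟩, _ | ⟨⟨r5, β'⟩,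
    _ | ⟨⟨r6, z⟩, _ | ⟨⟨r7, w⟩, _ | ⟨⟨r8, v⟩, _ | ⟨⟨r9, x⟩, L⟩⟩⟩⟩⟩⟩⟩⟩⟩⟩ <;>
    simp only [nine, List.map_cons, List.map_nil, List.cons.injEq, List.nil_eq, reduceCtorEq, and_false,
      false_and] at e
  obtain ⟨rfl, rfl, rfl, rfl, rfl, rfl, rfl, rfl, rfl, -⟩ := e
  obtain rfl : d0 = 1 := by simpa using (h.each ([1, 0, -1, 1, 0], d0) (by simp)).2.2.2.2
  obtain rfl : q = w := by
    have hm := h.gal ([0, 0, 1, 0, 1], q) (by simp) ⟨2, by simp⟩
    simpa [Nm, isNeg, galRow] using hm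
  obtain ⟨hA0, -, -, -, -⟩ := h.each ([0, 0, 1, 0, 0], A) (by simp)
  obtain ⟨hq0, hq8, -, -, -⟩ := h.each ([0, 0, 1, 0, 1], q) (by simp)
  obtain ⟨hz0, -, -, -, -⟩ := h.each ([0, 0, 0, 1, 0], z) (by simp)
  obtain ⟨hv0, -, -, -, -⟩ := h.each ([0, 0, 0, 1, 1], v) (by simp)
  have l2 := h.lin 1
  have l3 := h.lin 2
  have e2 := h.quad 1
  have e3 := h.quad 2
  simp [pairS, rowT] at l2 l3 e2 e3 hq8
  have hA : A = 1 - 2 * q := by omega
  have hm : (m : ℚ) ≠ 0 := Int.cast_ne_zero.2 h.pos.ne'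
  have hA0' : (A : ℚ) ≠ 0 := Int.cast_ne_zero.2 hA0
  have hq0' : (q : ℚ) ≠ 0 := Int.cast_ne_zero.2 hq0
  have hz0' : (z : ℚ) ≠ 0 := Int.cast_ne_zero.2 hz0
  have hv0' : (v : ℚ) ≠ 0 := Int.cast_ne_zero.2 hv0
  refine Arith.nine_false (q := q) (v := v) (z := z) h.pos h.odd (by omega) ?_ (by omega) ?_
  · field_simp at e2
    have e2' : (((m * (q + 2) * (q + 2)) : ℤ) : ℚ) = ((360 * q * (2 * q - 1) : ℤ) : ℚ) := by
      rw [hA] at e2
      push_cast at e2 ⊢
      refine mul_left_cancel₀ (two_ne_zero) ?_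
      linear_combination e2
    exact_mod_cast e2'
  · field_simp at e3
    have e3' : (((m * q * v * z + 36 * m * q * v - 4 * m * v * z + 9 * m * q * z - 1200 * q * v * z) : ℤ) : ℚ) =
        ((0 : ℤ) : ℚ) := by
      push_cast at e3 ⊢
      linear_combination e3
    exact_mod_cast e3'

theorem of_ten {m : ℤ} {L : List (List ℤ × ℤ)} (h : NSys m L) (e : L.map Prod.fst = ten) :
    m = 1463 ∨ (m = 1575 ∧ L.count (([0, 0, 1, 0, 0] : List ℤ), (-35 : ℤ)) = 1) := by
  rcases L with _ | ⟨⟨r0, d0⟩, _ | ⟨⟨r1, a⟩, _ | ⟨⟨r2, b⟩, _ | ⟨⟨r3, p⟩, _ | ⟨⟨r4, p'⟩, _ | ⟨⟨r5, β⟩,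
    _ | ⟨⟨r6, β'⟩, _ | ⟨⟨r7, e'⟩, _ | ⟨⟨r8, c⟩, _ | ⟨⟨r9, d⟩, _ | ⟨⟨r10, x⟩, L⟩⟩⟩⟩⟩⟩⟩⟩⟩⟩⟩ <;>
    simp only [ten, List.map_cons, List.map_nil, List.cons.injEq, List.nil_eq, reduceCtorEq, and_false,
      false_and] at e
  obtain ⟨rfl, rfl, rfl, rfl, rfl, rfl, rfl, rfl, rfl, rfl, -⟩ := e
  obtain rfl : d0 = 1 := by simpa using (h.each ([1, 0, -1, 1, 0], d0) (by simp)).2.2.2.2
  obtain ⟨ha0, ha8, ha5, -, -⟩ := h.each ([0, 0, 1, 0, 0], a) (by simp)
  obtain ⟨hb0, hb8, hb5, -, -⟩ := h.each ([0, 0, 1, 0, 0], b) (by simp)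
  obtain ⟨he0, he8, hem, -, -⟩ := h.each ([0, 0, 1, -1, 0], e') (by simp)
  obtain ⟨hc0, -, -, -, -⟩ := h.each ([0, 0, 0, 1, 1], c) (by simp)
  obtain ⟨hd0, -, -, -, -⟩ := h.each ([0, 0, 0, 1, 1], d) (by simp)
  have l2 := h.lin 1
  have l3 := h.lin 2
  have e2 := h.quad 1
  have e3 := h.quad 2
  simp [pairS, rowT] at l2 l3 e2 e3 ha8 hb8 he8 ha5 hb5 hem
  have hm : (m : ℚ) ≠ 0 := Int.cast_ne_zero.2 h.pos.ne'
  have ha0' : (a : ℚ) ≠ 0 := Int.cast_ne_zero.2 ha0
  have hb0' : (b : ℚ) ≠ 0 := Int.cast_ne_zero.2 hb0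
  have he0' : (e' : ℚ) ≠ 0 := Int.cast_ne_zero.2 he0
  have hc0' : (c : ℚ) ≠ 0 := Int.cast_ne_zero.2 hc0
  have hd0' : (d : ℚ) ≠ 0 := Int.cast_ne_zero.2 hd0
  have h4 : 25 * (1 + -e') * -e' * m = a * b * ((1 + -e') * m - 720 * -e') := by
    field_simp at e2
    have hab : (a : ℚ) + b = 1 - e' := by exact_mod_cast (show a + b = 1 - e' by omega)
    have e2' : ((25 * (1 + -e') * -e' * m : ℤ) : ℚ) = ((a * b * ((1 + -e') * m - 720 * -e') : ℤ) : ℚ) := by
      push_cast at e2 ⊢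
      linear_combination (-1 : ℚ) * e2 + (25 * (m : ℚ) * e') * hab
    exact_mod_cast e2'
  have h1 : (m * -e' + m - 1200 * -e') * (c * d) + 9 * (c + d) * -e' * m = 0 := by
    field_simp at e3
    have e3' : (((m * -e' + m - 1200 * -e') * (c * d) + 9 * (c + d) * -e' * m : ℤ) : ℚ) = ((0 : ℤ) : ℚ) := by
      push_cast at e3 ⊢
      linear_combination (-1 : ℚ) * e3
    exact_mod_cast e3'
  rcases Arith.ten_cases (a := a) (b := b) (e := -e') (c := c) (d := d) h.pos h.odd (by omega) (by omega)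
    (neg_dvd.2 hem) (neg_ne_zero.2 he0) (by omega) (by omega) (by rwa [mul_comm]) (by rwa [mul_comm]) h4
    (by omega) h1 with h' | ⟨h1, h2, h3⟩
  · exact Or.inl h'
  · refine Or.inr ⟨h1, ?_⟩
    obtain rfl : e' = 15 := by omega
    rcases h3 with ⟨rfl, rfl⟩ | ⟨rfl, rfl⟩ <;> simp

namespace Cent

variable {G : Type u} [Group G] [Fintype G] {ι : M →* G} (hc : Cent ι)

include hc

/-- The order, up to the exceptional case. -/
theorem order_cases [IsSimpleGroup G] :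
    Nat.card G = 175560 ∨ (Nat.card G = 189000 ∧ ∃ x : G → ℂ, Sg x ∧ hc.rowOf x = [0, 0, 1, 0, 0] ∧ dg x = -35 ∧
      ∀ y : G → ℂ, Sg y → hc.rowOf y = [0, 0, 1, 0, 0] → dg y = -35 → y = x) := by
  classical
  obtain ⟨cs, l, K⟩ := hc.exists_constituents
  have hsys := Constituents.sys hc K
  set L := l.map fun x => (hc.rowOf x, dg x) with hLdef
  clear_value L
  have hcs : L.map Prod.fst = cs := by rw [K.rows, hLdef, List.map_map]; rfl
  have hN := NSys.of_sys hsys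
  have hfst : (L.map Nm).map Prod.fst = cs.map normRow := by
    rw [← hcs, List.map_map, List.map_map]
    exact List.map_congr_left fun p _ => Nm_fst p
  have hm : Nat.card G = 120 * (Nat.card G / 120) := by have := hc.card_class; omega
  have hs := List.all_eq_true.1 search_ok _ K.run
  simp only [Bool.or_eq_true, List.isPerm_iff] at hs
  rcases hs with (((hs | hs) | hs) | hs) | hs
  · exact absurd (hcs ▸ hs) (not_lone hsys)
  · exact absurd (hcs ▸ hs) (not_eight hsys)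
  · exact absurd (hcs ▸ hs) (not_unequal hsys)
  · rw [← hfst] at hs
    obtain ⟨L', hp, hL'⟩ := exists_of_perm_map _ hs
    exact (not_nine (hN.perm hp.symm) hL').elim
  · rw [← hfst] at hs
    obtain ⟨L', hp, hL'⟩ := exists_of_perm_map _ hs
    rcases of_ten (hN.perm hp.symm) hL' with h | ⟨h, hcount⟩
    · left; omega
    right
    refine ⟨by omega, ?_⟩
    -- the normalised constituents
    let nf : (G → ℂ) → G → ℂ := fun x => if isNeg (hc.rowOf x) then -x else x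
    let key : (G → ℂ) → List ℤ × ℤ := fun x => (hc.rowOf x, dg x)
    have hdneg : ∀ x : G → ℂ, Sg x → dg (-x) = -dg x := by
      intro x hx
      obtain ⟨n, -, hn⟩ := hx.apply_one_int
      rw [dg_eq hn, dg_eq (d := -n) (by rw [Pi.neg_apply, hn]; push_cast; rfl)]
    have hkey : L.map Nm = (l.map nf).map key := by
      rw [hLdef, List.map_map, List.map_map]
      refine List.map_congr_left fun x hx => ?_
      simp only [Function.comp, Nm, nf, key]
      split_ifs with hn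
      · rw [hc.rowOf_neg (K.orth.1 x hx), hdneg x (K.orth.1 x hx)]
      · rfl
    have hlen : ((l.map nf).filter fun z => key z == (([0, 0, 1, 0, 0] : List ℤ), (-35 : ℤ))).length = 1 := by
      rw [← hcount, ← (hp.symm).count_eq, hkey, List.count, List.countP_map, List.countP_eq_length_filter]
      rfl
    obtain ⟨x, hx⟩ := List.length_eq_one_iff.1 hlen
    have hxm : x ∈ (l.map nf).filter fun z => key z == (([0, 0, 1, 0, 0] : List ℤ), (-35 : ℤ)) := by
      rw [hx]; exact List.mem_singleton_self x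
    obtain ⟨hxl, hxk⟩ := List.mem_filter.1 hxm
    obtain ⟨hr, hd⟩ := Prod.mk.inj (beq_iff_eq.1 hxk)
    obtain ⟨x0, hx0, hxe⟩ := List.mem_map.1 hxl
    have hsx : Sg x := by
      rw [← hxe]
      simp only [nf]
      split_ifs
      · exact (K.orth.1 x0 hx0).neg
      · exact K.orth.1 x0 hx0
    refine ⟨x, hsx, hr, hd, fun y hy hyr hyd => ?_⟩
    have hi : iq (Fv hc.toM 2) y ≠ 0 := by
      have : (hc.rowOf y).getD 2 0 = 1 := by rw [hyr]; rfl
      simp [rowOf, List.range_succ] at this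
      omega
    have hneg : isNeg (hc.rowOf y) = false := by rw [hyr]; decide
    have hyl : y ∈ l.map nf := by
      rcases Constituents.exists_mem hc K hy (by norm_num : 2 < 5) hi with h' | h'
      · exact List.mem_map.2 ⟨y, h', by simp [nf, hneg]⟩
      · refine List.mem_map.2 ⟨-y, h', ?_⟩
        simp only [nf, hc.rowOf_neg hy, hyr]
        rw [if_pos (by decide), neg_neg]
    have : y ∈ (l.map nf).filter fun z => key z == (([0, 0, 1, 0, 0] : List ℤ), (-35 : ℤ)) :=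
      List.mem_filter.2 ⟨hyl, beq_iff_eq.2 (Prod.ext hyr hyd)⟩
    rw [hx] at this
    exact List.mem_singleton.1 this

end Cent

end CfsgLib.Spor.J1Type
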