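import Cfsg.Agent.Lib.Spor.J1Type.Words
import Cfsg.Agent.Lib.Spor.J1Type.Cert.Full.All
import Cfsg.Agent.Lib.Spor.J1Type.Cert.Wrong0.All
import Cfsg.Agent.Lib.Spor.J1Type.Cert.Wrong2.All
import Cfsg.Agent.Lib.Spor.J1Type.Cert.Wrong3.All

/-!
# Groups of Janko's first type: the certified enumeration
-/

set_option autoImplicit false
set_option maxRecDepth 100000

namespace CfsgLib.Spor.J1Type

open Subgroup CfsgLib.Spor.TC CfsgLib.Spor.HN CfsgLib.Invol.JTwo.Icosa

universe u

variable {G : Type u} [Group G] {ι : M →* G} {h : G}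

theorem sub_mem_range (ι : M →* G) (h : G) : ∀ w ∈ [[0], [2], [4]], ev (gl ι h) w ∈ ι.range := by
  intro w hw
  simp only [List.mem_cons, List.not_mem_nil, or_false] at hw
  rcases hw with rfl | rfl | rfl <;> simp [ev, gl, letterVal]

theorem false_of_cert (F : Frame ι h) {i : Fin 4} (hc : fEl ι h i * ι (mA yA) = ι (mA yA) * fEl ι h i)
    {C : Cert} {nE code : ℕ} (hk : C.k = 8) (hsteps : C.SStepsOK 0 nE)
    (htr : C.sTraceOK nE [6] code = true) (hr : ∀ r ∈ C.rels, r ∈ allRels i)
    (hs : ∀ r ∈ C.subs, r ∈ [[0], [2], [4]]) : False := by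
  have hm := Cert.mem_of_sTrace hsteps htr (gl ι h) (fun x => hk ▸ gl_inv ι h x) (hk ▸ gl_eight ι h)
    (fun r hr' => all_hold F hc r (hr r hr')) ι.range fun r hr' => sub_mem_range ι h r (hs r hr')
  obtain ⟨x, hx⟩ := hm
  have hx' : ι x = h := by simpa [ev, gl, letterVal] using hx
  have e := F.ht
  rw [← hx', ← map_inv, ← map_mul, ← map_mul, ← mT_rel.2.2, mul_inv_cancel_right] at e
  exact absurd (F.inj e) (by decide +kernel)

/-- Only one of the four configurations occurs. -/
theorem config_eq_one (F : Frame ι h) {i : Fin 4} (hc : fEl ι h i * ι (mA yA) = ι (mA yA) * fEl ι h i) :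
    i = 1 := by
  fin_cases i
  · exact (false_of_cert (C := Cert.Wrong0.cert) F hc rfl Cert.Wrong0.steps_ok Cert.Wrong0.trace
      (by decide +kernel) (by decide +kernel)).elim
  · rfl
  · exact (false_of_cert (C := Cert.Wrong2.cert) F hc rfl Cert.Wrong2.steps_ok Cert.Wrong2.trace
      (by decide +kernel) (by decide +kernel)).elim
  · exact (false_of_cert (C := Cert.Wrong3.cert) F hc rfl Cert.Wrong3.steps_ok Cert.Wrong3.trace
      (by decide +kernel) (by decide +kernel)).elim

theorem mem_pair (x : M) : x ∈ closure ({mA a0, mA b0, mT} : Set M) := by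
  have key : ∀ p : A5, ∃ i j k l m : Fin 5, ∃ n : Fin 2,
      p = (a0 * b0) ^ i.1 * b0 ^ j.1 * (a0 * b0) ^ k.1 * b0 ^ l.1 * (a0 * b0) ^ m.1 * a0 ^ n.1 := by
    decide +kernel
  have ha : mA a0 ∈ closure ({mA a0, mA b0, mT} : Set M) := subset_closure (by simp)
  have hb : mA b0 ∈ closure ({mA a0, mA b0, mT} : Set M) := subset_closure (by simp)
  have ht : mT ∈ closure ({mA a0, mA b0, mT} : Set M) := subset_closure (by simp)
  obtain ⟨p, hp⟩ := mem_cases x
  obtain ⟨i, j, k, l, m, n, rfl⟩ := key p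
  have hm : mA ((a0 * b0) ^ i.1 * b0 ^ j.1 * (a0 * b0) ^ k.1 * b0 ^ l.1 * (a0 * b0) ^ m.1 * a0 ^ n.1) ∈
      closure ({mA a0, mA b0, mT} : Set M) := by
    simp only [map_mul, map_pow]
    exact mul_mem (mul_mem (mul_mem (mul_mem (mul_mem (pow_mem (mul_mem ha hb) _) (pow_mem hb _))
      (pow_mem (mul_mem ha hb) _)) (pow_mem hb _)) (pow_mem (mul_mem ha hb) _)) (pow_mem ha _)
  rcases hp with rfl | rfl
  · exact hm
  · exact mul_mem ht hm

/-- The configuration bounds the order of the generated group. -/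
theorem card_le [Finite G] (hgen : closure ((ι.range : Set G) ∪ {h}) = ⊤)
    (hrel : ∀ r ∈ allRels 1, ev (gl ι h) r = 1) : Nat.card G ≤ 175560 := by
  obtain ⟨-, hi⟩ := Cert.index_le_signed Cert.Full.steps_ok Cert.Full.rows_ok (by decide +kernel) (by norm_num)
    (gl ι h) (gl_inv ι h) (gl_eight ι h) (fun x hx => invLetter_lt (by rfl) hx) (by
      rw [eq_top_iff, ← hgen, closure_le]
      have h0 : ∀ k < 8, gl ι h k ∈ closure (gl ι h '' Set.Iio Cert.Full.cert.k) := fun k hk =>
        subset_closure ⟨k, Set.mem_Iio.2 hk, rfl⟩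
      rintro x (⟨m, rfl⟩ | rfl)
      · refine (?_ : m ∈ (closure (gl ι h '' Set.Iio Cert.Full.cert.k)).comap ι)
        refine (closure_le _).2 ?_ (mem_pair m)
        rintro y (rfl | rfl | rfl)
        · exact h0 0 (by norm_num)
        · exact h0 2 (by norm_num)
        · exact h0 4 (by norm_num)
      · exact h0 6 (by norm_num))
    (fun w hw => hrel w ((show ∀ r ∈ Cert.Full.cert.rels, r ∈ allRels 1 by decide +kernel) w hw))
    ι.range (fun w hw => sub_mem_range ι h w ((show ∀ r ∈ Cert.Full.cert.subs, r ∈ [[0], [2], [4]] by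
      decide +kernel) w hw))
  have hR : Nat.card ι.range ≤ 120 := by
    rw [← card_M]
    exact Nat.card_le_card_of_surjective ι.rangeRestrict ι.rangeRestrict_surjective
  rw [← ι.range.card_mul_index]
  calc Nat.card ι.range * ι.range.index ≤ 120 * 1463 := Nat.mul_le_mul hR hi
    _ = 175560 := by norm_num

end CfsgLib.Spor.J1Type
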