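import Cfsg.Agent.Lib.Spor.J1Type.Frame

/-!
# Groups of Janko's first type: the centraliser and the normaliser generate
-/

set_option autoImplicit false
set_option maxRecDepth 10000

namespace CfsgLib.Spor.J1Type

open Subgroup CfsgLib.Invol.JTwo.Icosa

variable {G : Type*} [Group G] {ι : M →* G} {h : G}

theorem card_invol : Nat.card {x : M // x * x = 1 ∧ x ≠ 1} = 31 := by
  rw [Nat.card_eq_fintype_card]; decide +kernel

theorem conj_three (a b c : G) : h * (a * (b * c)) * h⁻¹ = h * a * h⁻¹ * (h * b * h⁻¹ * (h * c * h⁻¹)) := by group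

namespace Frame

variable (F : Frame ι h)
include F

theorem conj_lin (n : ℕ) (i : Fin 8) : h ^ n * sv ι i * (h ^ n)⁻¹ = sv ι ((lin 4 3)^[n] i) := by
  have h1 : ∀ i, h * sv ι i * h⁻¹ = sv ι (lin 4 3 i) := by
    have e1 : h * sv ι 1 * h⁻¹ = sv ι 2 := by rw [sv, sv, vM_vals.2.1, vM_vals.2.2.1]; exact F.ht
    have e2 : h * sv ι 2 * h⁻¹ = sv ι 4 := by rw [sv, sv, vM_vals.2.2.1, vM_vals.2.2.2.2.1]; exact F.hr
    have e4 : h * sv ι 4 * h⁻¹ = sv ι 3 := by
      rw [sv, sv, vM_vals.2.2.2.2.1, vM_vals.2.2.2.1, map_mul]; exact F.hs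
    have e0 : h * sv ι 0 * h⁻¹ = sv ι 0 := by rw [sv_zero]; group
    intro i
    conv_lhs => rw [vdec i, ← sv_mul, ← sv_mul]
    rw [lin, ← sv_mul, ← sv_mul, conj_three]
    split_ifs <;> simp only [e0, e1, e2, e4]
  induction n generalizing i with
  | zero => simp
  | succ n ih =>
    rw [pow_succ, Function.iterate_succ_apply, ← ih, ← h1]
    group

/-- The centraliser and the element of order seven generate a group of order 175560. -/
theorem closure_eq_top [Finite G] [IsSimpleGroup G] (hG : Nat.card G = 175560) :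
    closure ((ι.range : Set G) ∪ {h}) = ⊤ := by
  classical
  haveI : Fact (Nat.Prime 2) := ⟨Nat.prime_two⟩
  set X := closure ((ι.range : Set G) ∪ {h}) with hX
  have hC : ∀ x : M, ι x ∈ X := fun x => subset_closure (Or.inl ⟨x, rfl⟩)
  have hh : h ∈ X := subset_closure (Or.inr rfl)
  have hS : four ι ≤ X := by rintro _ ⟨i, rfl⟩; exact hC _
  -- the normaliser
  have hconjX : ∀ i : Fin 8, i ≠ 0 → ∃ y ∈ X, y * ι mT * y⁻¹ = sv ι i := by
    intro i hi
    obtain ⟨j, hj⟩ := (show ∀ i : Fin 8, i ≠ 0 → ∃ j : Fin 7, (lin 4 3)^[j.1] 1 = i by decide +kernel) i hi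
    refine ⟨h ^ j.1, pow_mem hh _, ?_⟩
    rw [← hj, ← F.conj_lin, sv, vM_vals.2.1]
  obtain ⟨S, hSf⟩ := F.toCent.exists_sylow
  -- involutions of the subgroup
  have hinv : ∀ g ∈ X, g * g = 1 → g ≠ 1 → ∃ y ∈ X, y * ι mT * y⁻¹ = g := by
    intro g hgX hg hg1
    have hz : IsPGroup 2 (zpowers (⟨g, hgX⟩ : X)) :=
      IsPGroup.of_card (n := 1) (by
        rw [Nat.card_zpowers, pow_one]
        exact orderOf_eq_prime (by rw [sq]; exact Subtype.ext hg) fun e => hg1 (congrArg Subtype.val e))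
    obtain ⟨Q, hQ⟩ := hz.exists_le_sylow
    obtain ⟨k, hk⟩ := MulAction.exists_smul_eq X (S.subtype (hSf ▸ hS)) Q
    have hmem : (⟨g, hgX⟩ : X) ∈ (k • S.subtype (hSf ▸ hS) : Sylow 2 X).toSubgroup := hk ▸ hQ (mem_zpowers _)
    rw [Sylow.smul_def, Sylow.pointwise_smul_def, Subgroup.mem_pointwise_smul_iff_inv_smul_mem,
      Sylow.coe_subtype, mem_subgroupOf] at hmem
    have hmem' : (k : G)⁻¹ * g * k ∈ four ι := by
      rw [← hSf]
      simpa [MulAut.smul_def] using hmem
    obtain ⟨i, hi⟩ := hmem'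
    have hi0 : i ≠ 0 := by
      rintro rfl
      rw [sv_zero] at hi
      apply hg1
      calc g = k * ((k : G)⁻¹ * g * k) * (k : G)⁻¹ := by group
        _ = 1 := by rw [← hi]; group
    obtain ⟨y, hy, e⟩ := hconjX i hi0
    refine ⟨k * y, mul_mem k.2 hy, ?_⟩
    calc (k : G) * y * ι mT * (k * y)⁻¹ = k * (y * ι mT * y⁻¹) * (k : G)⁻¹ := by group
      _ = g := by rw [e, hi]; group
  -- the order
  have h120 : 120 ∣ Nat.card X := by
    rw [← card_M, Nat.card_congr (MonoidHom.ofInjective F.inj).toEquiv]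
    exact card_dvd_of_le (by rintro _ ⟨x, rfl⟩; exact hC x)
  have hh7 : orderOf h = 7 := by
    haveI : Fact (Nat.Prime 7) := ⟨by norm_num⟩
    refine orderOf_eq_prime F.seven fun e => ?_
    have := F.ht
    rw [e] at this
    exact absurd (F.inj (by simpa using this)) (show mT ≠ mA rA by decide +kernel)
  have h840 : 840 ∣ Nat.card X := by
    have h7 : 7 ∣ Nat.card X := hh7 ▸ orderOf_mk h hh ▸ orderOf_dvd_natCard _
    exact Nat.Coprime.mul_dvd_of_dvd_of_dvd (show Nat.Coprime 120 7 by norm_num) h120 h7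
  obtain ⟨m, hm⟩ := h840
  have hk : m * X.index = 209 := by
    have := X.card_mul_index
    rw [hm, hG, mul_assoc] at this
    exact Nat.eq_of_mul_eq_mul_left (show 0 < 840 by norm_num) this
  -- the Sylow subgroup acts freely outside
  let α := {q : G ⧸ X // q ≠ ((1 : G) : G ⧸ X)}
  have hfix : ∀ x ∈ four ι, x • ((1 : G) : G ⧸ X) = ((1 : G) : G ⧸ X) := by
    intro x hx
    show ((x * 1 : G) : G ⧸ X) = _
    rw [QuotientGroup.eq, mul_one]
    exact inv_mem (mul_mem (hS hx) (one_mem _))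
  letI : MulAction (four ι) α :=
    { smul := fun x q => ⟨(x : G) • q.1, fun e => q.2 (by
        have e' := congrArg (fun r => (x : G)⁻¹ • r) e
        simp only [inv_smul_smul] at e'
        rw [e', hfix _ (inv_mem x.2)])⟩
      one_smul := fun q => Subtype.ext (one_smul G q.1)
      mul_smul := fun x y q => Subtype.ext (mul_smul (x : G) (y : G) q.1) }
  have hfree : ∀ q : α, MulAction.stabilizer (four ι) q = ⊥ := by
    rintro ⟨q, hq⟩
    rw [eq_bot_iff]
    intro x hx
    rw [mem_bot]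
    by_contra hx1
    induction q using QuotientGroup.induction_on with
    | H g =>
      have e : ((x : G) * g : G ⧸ X) = (g : G ⧸ X) := congrArg Subtype.val (MulAction.mem_stabilizer_iff.1 hx)
      rw [QuotientGroup.eq] at e
      have hy : g⁻¹ * (x : G) * g ∈ X := by
        have e' := inv_mem e
        rw [mul_inv_rev, inv_inv, ← mul_assoc] at e'
        simpa [mul_assoc] using e'
      obtain ⟨i, hi⟩ := x.2
      have hx2 : (x : G) * x = 1 := by rw [← hi, sv_sq]
      obtain ⟨y, hyX, ey⟩ := hinv _ hy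
        (by rw [show g⁻¹ * (x : G) * g * (g⁻¹ * x * g) = g⁻¹ * (x * x) * g by group, hx2]; group)
        (fun e1 => hx1 (Subtype.ext (by
          calc (x : G) = g * (g⁻¹ * x * g) * g⁻¹ := by group
            _ = 1 := by rw [e1]; group)))
      have hi0 : i ≠ 0 := fun e1 => hx1 (Subtype.ext (by rw [← hi, e1, sv_zero]; rfl))
      obtain ⟨n, hn, en⟩ := hconjX i hi0
      have hc : n⁻¹ * g * y * ι mT = ι mT * (n⁻¹ * g * y) := by
        rw [hi] at en
        calc n⁻¹ * g * y * ι mT = n⁻¹ * g * (y * ι mT * y⁻¹) * y := by group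
          _ = n⁻¹ * (x : G) * g * y := by rw [ey]; group
          _ = ι mT * (n⁻¹ * g * y) := by rw [← en]; group
      obtain ⟨z, hz⟩ := F.full _ hc
      refine hq ?_
      rw [QuotientGroup.eq, mul_one, inv_mem_iff,
        show g = n * (n⁻¹ * g * y) * y⁻¹ by group, ← hz]
      exact mul_mem (mul_mem hn (hC z)) (inv_mem hyX)
  have hdiv : 8 ∣ Nat.card α := by
    rw [Nat.card_congr (MulAction.selfEquivOrbitsQuotientProd hfree), Nat.card_prod, F.toCent.card_four]
    exact Dvd.intro_left _ rfl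
  have hα : Nat.card α + 1 = X.index := by
    haveI := Fintype.ofFinite (G ⧸ X)
    rw [Subgroup.index, Nat.card_eq_fintype_card, Nat.card_eq_fintype_card, Fintype.card_subtype_compl,
      Fintype.card_subtype_eq]
    have := Fintype.card_pos (α := G ⧸ X)
    omega
  -- the class of the involution inside
  let J := {x : M // x * x = 1 ∧ x ≠ 1}
  have hJ : Nat.card J ≤ 7 * m := by
    let C₀ : Subgroup X := ι.range.subgroupOf X
    have hi : Nat.card J ≤ C₀.index := by
      have hsurj : ∀ x : J, ∃ q : X ⧸ C₀, ((q.out : X) : G) * ι mT * ((q.out : X) : G)⁻¹ = ι x.1 := by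
        intro x
        obtain ⟨y, hy, e⟩ := hinv (ι x.1) (hC _) (by rw [← map_mul, x.2.1, map_one])
          (fun e => x.2.2 (F.inj (e.trans (map_one ι).symm)))
        refine ⟨((⟨y, hy⟩ : X) : X ⧸ C₀), ?_⟩
        obtain ⟨c, hc⟩ := QuotientGroup.mk_out_eq_mul C₀ (⟨y, hy⟩ : X)
        obtain ⟨w, hw'⟩ := (c.2 : ((c : X) : G) ∈ ι.range)
        have hw : ι w = ((c : X) : G) := hw'
        rw [hc, Subgroup.coe_mul, ← hw, ← e, mul_inv_rev]
        show y * ι w * ι mT * ((ι w)⁻¹ * y⁻¹) = _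
        rw [mul_assoc y, ← map_mul, ← mT_rel.2.2, map_mul]
        group
      choose q hq using hsurj
      refine Nat.card_le_card_of_injective q fun a b e => Subtype.ext (F.inj ?_)
      rw [← hq a, ← hq b, e]
    refine hi.trans (le_of_eq ?_)
    have hcC : Nat.card C₀ = 120 := by
      rw [← card_M, Nat.card_congr (MonoidHom.ofInjective F.inj).toEquiv]
      exact Nat.card_congr (subgroupOfEquivOfLe (by rintro _ ⟨x, rfl⟩; exact hC x)).toEquiv
    have := C₀.card_mul_index
    rw [hcC, hm] at this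
    omega
  rw [show Nat.card J = 31 from card_invol] at hJ
  have hmd : m ∣ 209 := ⟨_, hk.symm⟩
  have hle : m ≤ 209 := Nat.le_of_dvd (by norm_num) hmd
  have hidx : X.index = 1 := by
    obtain ⟨c, hc⟩ := hdiv
    have h2 : X.index = 1 ∨ X.index = 11 ∨ X.index = 19 ∨ X.index = 209 := by
      have hd : X.index ∈ Nat.divisors 209 := Nat.mem_divisors.2 ⟨Dvd.intro_left _ hk, by norm_num⟩
      rw [show Nat.divisors 209 = {1, 11, 19, 209} by decide +kernel] at hd
      simpa using hd
    rcases h2 with e | e | e | e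
    · exact e
    · omega
    · omega
    · rw [e] at hk
      omega
  exact index_eq_one.1 hidx

end Frame

end CfsgLib.Spor.J1Type
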