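import Cfsg.Agent.Lib.Char.GramSearch.Basic

/-!
# Groups of Janko's first type: the decompositions of the exceptional generalized characters
-/

set_option autoImplicit false
set_option linter.unusedSectionVars false

namespace CfsgLib.Spor.J1Type

open CfsgLib.Char CfsgLib.Char.GramSearch

/-- The Gram matrix of the trivial character and the four induced functions. -/
def gram : List (List ℤ) :=
  [[1, 0, -1, 1, 0], [0, 2, 0, 0, 0], [-1, 0, 4, -2, 0], [1, 0, -2, 4, 2], [0, 0, 0, 2, 4]]

/-- The Gram matrix as a function. -/
def gramFn (i j : ℕ) : ℤ := (gram.getD i []).getD j 0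

/-- The value at the involution of a constituent with the given row. -/
def rowT (r : List ℤ) : ℤ := 4 * r.getD 1 0 + 5 * r.getD 2 0 + 6 * r.getD 3 0 - 3 * r.getD 4 0

/-- The value at an element of order six of a constituent with the given row. -/
def rowY (r : List ℤ) : ℤ := r.getD 1 0 - r.getD 2 0

/-- The first nonzero entry is negative. -/
def isNeg : List ℤ → Bool
  | [] => false
  | a :: r => if a = 0 then isNeg r else decide (a < 0)

/-- The row with first nonzero entry positive. -/
def normRow (r : List ℤ) : List ℤ := if isNeg r then r.map (-·) else r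

/-- A column with one nonzero entry. -/
def lone (cs : List (List ℤ)) : Bool :=
  [1, 2, 3, 4].any fun j => (cs.filter fun r => !(r.getD j 0 == 0)).length == 1

/-- A constituent whose degree would be divisible by eight. -/
def eight (cs : List (List ℤ)) : Bool :=
  cs.any fun r => (rowT r % 8 == 0) && (rowY r % 2 == 1)

/-- Two constituents of the function of norm two with different values at the involution. -/
def unequal (cs : List (List ℤ)) : Bool :=
  match cs.filter fun r => !(r.getD 1 0 == 0) with
  | [p, q] => !(rowT p * rowT p == rowT q * rowT q) && (p.getD 1 0 * p.getD 1 0 == 1) &&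
      (q.getD 1 0 * q.getD 1 0 == 1)
  | _ => false

/-- The nine constituents of a possible decomposition. -/
def nine : List (List ℤ) :=
  [[1, 0, -1, 1, 0], [0, 0, 1, 0, 0], [0, 0, 0, 0, 1], [0, 0, 1, 0, 1], [0, 1, 0, 0, 0], [0, 1, 0, 0, 0],
    [0, 0, 0, 1, 0], [0, 0, 1, -1, -1], [0, 0, 0, 1, 1]]

/-- The ten constituents of the decomposition that occurs. -/
def ten : List (List ℤ) :=
  [[1, 0, -1, 1, 0], [0, 0, 1, 0, 0], [0, 0, 1, 0, 0], [0, 0, 0, 0, 1], [0, 0, 0, 0, 1], [0, 1, 0, 0, 0],
    [0, 1, 0, 0, 0], [0, 0, 1, -1, 0], [0, 0, 0, 1, 1], [0, 0, 0, 1, 1]]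

theorem search_ok : (run gramFn 5).all (fun cs => lone cs || eight cs || unequal cs ||
    (cs.map normRow).isPerm nine || (cs.map normRow).isPerm ten) = true := by decide +kernel

end CfsgLib.Spor.J1Type
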