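import Cfsg.Agent.Lib.Spor.J1Type.ModelFacts
import Cfsg.Agent.Lib.Spor.J1Type.Frame
import Cfsg.Agent.Lib.Spor.J1Type.Search
import Cfsg.Agent.Lib.Char.SignedIrr
import Cfsg.Agent.Lib.Char.Integrality

/-!
# Groups of Janko's first type: the constituents and their equations
-/

set_option autoImplicit false
set_option linter.unusedSectionVars false
set_option maxRecDepth 10000

namespace CfsgLib.Spor.J1Type

open scoped ComplexConjugate
open Cfsg CfsgLib.Char CfsgLib.Char.Signed CfsgLib.Char.GramSearch CfsgLib.Invol.JTwo.Icosa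

universe u

variable {G : Type u} [Group G] [Fintype G] {ι : M →* G}

/-- The trivial character and the four induced functions. -/
noncomputable def Fv (φ : ι.range ≃* M) (i : ℕ) : G → ℂ :=
  if i = 0 then fun _ => 1 else indFun ι.range (fun z => fC (Fin.ofNat 4 (i - 1)) (φ z))

theorem gram_zero : ∀ i : Fin 4, gramFn (i.1 + 1) 0 = oneF i := by decide +kernel

theorem gram_succ : ∀ i j : Fin 4, gramFn (i.1 + 1) (j.1 + 1) = (gramF.getD i.1 []).getD j.1 0 := by decide +kernel

namespace Cent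

variable (hc : Cent ι)

/-- The image as a copy of the concrete group. -/
noncomputable def toM : ι.range ≃* M := (MonoidHom.ofInjective hc.inj).symm

include hc

theorem toM_spec (z : ι.range) : ι (hc.toM z) = (z : G) :=
  congrArg Subtype.val ((MonoidHom.ofInjective hc.inj).apply_symm_apply z)

theorem toM_symm (x : M) : ((hc.toM.symm x : ι.range) : G) = ι x := rfl

theorem sum_range {β : Type*} [AddCommMonoid β] [Fintype ι.range] (f : M → β) :
    ∑ z : ι.range, f (hc.toM z) = ∑ x : M, f x :=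
  Fintype.sum_equiv hc.toM.toEquiv _ _ fun _ => rfl

theorem Fv_gen (i : ℕ) : Gen (Fv hc.toM i) := by
  unfold Fv
  split_ifs
  · exact (Sg.of_irr ⟨_, isIrrCharacter_one⟩).gen
  · exact isGeneralizedCharacter_indFun _ (isGeneralizedCharacter_comp (fC_gen _) hc.toM.toMonoidHom)

theorem eq_t_pow {i : Fin 4} {z : ι.range} (hz : fC i (hc.toM z) ≠ 0) : (z : G) ^ 15 = ι mT := by
  rw [← hc.toM_spec z, ← map_pow, supp_fM i _ fun e => hz (by rw [fC, e, map_zero])]

/-- On its support an induced function has the values of the function. -/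
theorem indFun_supp (i : Fin 4) {j : Fin 4} {z : ι.range} (hz : fC j (hc.toM z) ≠ 0) :
    indFun ι.range (fun z => fC i (hc.toM z)) z = fC i (hc.toM z) := by
  classical
  have h1 : ∀ y : G, y ∉ ι.range → extendByZero ι.range (fun z => fC i (hc.toM z)) (y⁻¹ * z * y) = 0 := by
    intro y hy
    by_cases hm : y⁻¹ * (z : G) * y ∈ ι.range
    · rw [extendByZero_mem _ _ hm]
      by_contra hne
      refine hy ?_
      have e := hc.eq_t_pow hne
      have e' : (y⁻¹ * (z : G) * y) ^ 15 = y⁻¹ * (z : G) ^ 15 * y := by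
        have := conj_pow (a := y⁻¹) (b := (z : G)) (i := 15)
        rwa [inv_inv] at this
      rw [e', hc.eq_t_pow hz] at e
      obtain ⟨x, hx⟩ := hc.full y (by
        calc y * ι mT = y * (y⁻¹ * ι mT * y) := by rw [e]
          _ = ι mT * y := by group)
      exact ⟨x, hx⟩
    · exact extendByZero_not_mem _ _ hm
  have hcl : ∀ (k x : M), fC i (k * x * k⁻¹) = fC i x := fun k x => (isClassFunction_of_isGeneralized (fC_gen i)) x k
  have h2 : ∀ y : G, y ∈ ι.range → extendByZero ι.range (fun z => fC i (hc.toM z)) (y⁻¹ * z * y) =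
      fC i (hc.toM z) := by
    intro y hy
    rw [extendByZero_mem _ _ (ι.range.mul_mem (ι.range.mul_mem (ι.range.inv_mem hy) z.2) hy)]
    rw [show (⟨y⁻¹ * z * y, _⟩ : ι.range) = (⟨y, hy⟩ : ι.range)⁻¹ * z * (⟨y, hy⟩ : ι.range) from
      Subtype.ext rfl, map_mul, map_mul, map_inv]
    conv_lhs => rw [show ∀ a b : M, a⁻¹ * b * a = a⁻¹ * b * a⁻¹⁻¹ from fun a b => by rw [inv_inv]]
    exact hcl _ _
  rw [indFun, Finset.sum_congr rfl (g := fun y => if y ∈ ι.range then fC i (hc.toM z) else 0) fun y _ => by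
    split_ifs with hy
    · exact h2 y hy
    · exact h1 y hy]
  rw [← Finset.sum_filter, Finset.sum_const, nsmul_eq_mul, ← Fintype.card_subtype,
    ← Nat.card_eq_fintype_card, ← mul_assoc, inv_mul_cancel₀ (by exact_mod_cast Nat.card_pos.ne'), one_mul]

theorem card_range : Nat.card ι.range = 120 := by
  rw [← card_M]; exact Nat.card_congr hc.toM.toEquiv

theorem classInner_ind (i : Fin 4) {χ : G → ℂ} (hχ : IsClassFunction G χ) :
    classInner (indFun ι.range (fun z => fC i (hc.toM z))) χ = (120 : ℂ)⁻¹ * ∑ x : M, fC i x * conj (χ (ι x)) := by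
  classical
  have e : ∑ z : ι.range, fC i (hc.toM z) * conj (χ (z : G)) = ∑ x : M, fC i x * conj (χ (ι x)) := by
    rw [← hc.sum_range fun x => fC i x * conj (χ (ι x))]
    exact Finset.sum_congr rfl fun z _ => by rw [hc.toM_spec]
  rw [classInner_indFun _ _ _ hχ, classInner, hc.card_range, e, Nat.cast_ofNat]

theorem iq_Fv : ∀ i < 5, ∀ j ≤ i, iq (Fv hc.toM i) (Fv hc.toM j) = gramFn i j := by
  intro i hi j hj
  refine iq_eq _ ?_
  by_cases hi0 : i = 0
  · subst hi0
    obtain rfl : j = 0 := by omega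
    rw [Fv, if_pos rfl, show gramFn 0 0 = 1 from rfl, Int.cast_one]
    exact classInner_irr_self ⟨_, isIrrCharacter_one⟩
  obtain ⟨i', rfl⟩ : ∃ i' : Fin 4, i = i'.1 + 1 := ⟨⟨i - 1, by omega⟩, by simp; omega⟩
  have e : Fv hc.toM (i'.1 + 1) = indFun ι.range (fun z => fC i' (hc.toM z)) := by
    rw [Fv, if_neg (by omega)]
    congr 2
    funext z
    congr 2
    exact Fin.ext (by simp [Fin.ofNat, Nat.mod_eq_of_lt i'.2])
  rw [e, hc.classInner_ind i' (isClassFunction_of_isGeneralized (hc.Fv_gen j))]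
  by_cases hj0 : j = 0
  · subst hj0
    simp only [Fv, if_pos, map_one, mul_one]
    rw [show ∑ x : M, fC i' x = evR (∑ x : M, fM i' x) by rw [map_sum]; rfl, one_fM, evR_int]
    have : gramFn (i'.1 + 1) 0 = oneF i' := gram_zero i'
    rw [this]
    push_cast
    ring
  · obtain ⟨j', rfl⟩ : ∃ j' : Fin 4, j = j'.1 + 1 := ⟨⟨j - 1, by omega⟩, by simp; omega⟩
    have ej : Fv hc.toM (j'.1 + 1) = indFun ι.range (fun z => fC j' (hc.toM z)) := by
      rw [Fv, if_neg (by omega)]
      congr 2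
      funext z
      congr 2
      exact Fin.ext (by simp [Fin.ofNat, Nat.mod_eq_of_lt j'.2])
    rw [ej, show ∑ x : M, fC i' x * conj (indFun ι.range (fun z => fC j' (hc.toM z)) (ι x)) =
      evR (∑ x : M, pmul5 (fM i' x) (fM j' x)) by
      rw [map_sum]
      refine Finset.sum_congr rfl fun x _ => ?_
      rw [← evR_mul]
      by_cases hx : fC i' x = 0
      · rw [show evR (fM i' x) = 0 from hx, zero_mul]
        simp [hx]
      · have e1 := hc.indFun_supp j' (j := i') (z := hc.toM.symm x) (by rwa [MulEquiv.apply_symm_apply])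
        rw [hc.toM_symm, MulEquiv.apply_symm_apply] at e1
        rw [e1, fC, fC, evR_conj], gram_fM, evR_int]
    have : gramFn (i'.1 + 1) (j'.1 + 1) = (gramF.getD i'.1 []).getD j'.1 0 := gram_succ i' j'
    rw [this]
    push_cast
    ring

variable [IsSimpleGroup G]

theorem isConj_iff_invol (x : M) : IsConj (ι mT) (ι x) ↔ x * x = 1 ∧ x ≠ 1 := by
  constructor
  · intro h
    obtain ⟨g, hg⟩ := isConj_iff.1 h
    refine ⟨hc.inj ?_, fun e => hc.t_ne ?_⟩
    · rw [map_mul, ← hg, map_one, show g * ι mT * g⁻¹ * (g * ι mT * g⁻¹) = g * (ι mT * ι mT) * g⁻¹ by group, hc.t_sq]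
      group
    · rwa [e, map_one, conj_eq_one_iff] at hg
  · rintro ⟨h1, h2⟩
    exact hc.isConj_t (by rw [← map_mul, h1, map_one]) fun e => h2 (hc.inj (e.trans (map_one ι).symm))

theorem card_class : Nat.card {x : G // IsConj (ι mT) x} * 120 = Nat.card G := by
  rw [card_isConj, ← Subgroup.index_mul_card (Subgroup.centralizer ({ι mT} : Set G))]
  congr 1
  rw [← hc.card_range]
  congr 2
  ext g
  rw [Subgroup.mem_centralizer_singleton_iff]
  constructor
  · rintro ⟨x, rfl⟩
    rw [← map_mul, ← map_mul, mT_rel.2.2]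
  · intro h
    obtain ⟨x, hx⟩ := hc.full g h
    exact ⟨x, hx⟩

theorem card_class_six : Nat.card {x : G // IsConj (ι (mT * mA b0)) x} * 6 = Nat.card G := by
  classical
  rw [card_isConj, ← Subgroup.index_mul_card (Subgroup.centralizer ({ι (mT * mA b0)} : Set G))]
  congr 1
  rw [← card_centralizer_six, ← Nat.card_eq_fintype_card]
  refine Nat.card_congr (Equiv.ofBijective (fun x => ⟨ι x.1, ?_⟩) ⟨fun a b h => ?_, fun g => ?_⟩)
  · rw [Subgroup.mem_centralizer_singleton_iff, ← map_mul, x.2, map_mul]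
  · exact Subtype.ext (hc.inj (congrArg Subtype.val h))
  · have hg := Subgroup.mem_centralizer_singleton_iff.1 g.2
    obtain ⟨x, hx⟩ := hc.full g (by
      have h3 := ((show Commute (g : G) (ι (mT * mA b0)) from hg).pow_right 3).eq
      rw [← map_pow, cube_six] at h3
      exact h3)
    exact ⟨⟨x, hc.inj (by rw [map_mul, hx, hg, map_mul ι (mT * mA b0) x, hx])⟩, Subtype.ext hx⟩

/-- The class algebra identity. -/
theorem qfun_ind (i : Fin 4) :
    qfun (ι mT) (indFun ι.range (fun z => fC i (hc.toM z))) = (pairS i : ℂ) * 120 / (Nat.card G : ℂ) := by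
  classical
  obtain ⟨C, -, hC, hq⟩ := qfun_indFun ι.range (ι mT) (fun z => fC i (hc.toM z)) (fun z hz y w hy hw hyw => by
    obtain ⟨g, hg⟩ := isConj_iff.1 hy
    obtain ⟨g', hg'⟩ := isConj_iff.1 hw
    have hy2 : y * y = 1 := by
      rw [← hg, show g * ι mT * g⁻¹ * (g * ι mT * g⁻¹) = g * (ι mT * ι mT) * g⁻¹ by group, hc.t_sq]
      group
    have hw2 : w * w = 1 := by
      rw [← hg', show g' * ι mT * g'⁻¹ * (g' * ι mT * g'⁻¹) = g' * (ι mT * ι mT) * g'⁻¹ by group, hc.t_sq]
      group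
    have hinv : y * (z : G) * y⁻¹ = (z : G)⁻¹ := by
      rw [← hyw, mul_inv_rev, inv_eq_of_mul_eq_one_right hw2, inv_eq_of_mul_eq_one_right hy2, ← mul_assoc, hy2,
        one_mul]
    have e := congrArg (fun x => x ^ 15) hinv
    simp only [conj_pow, inv_pow, hc.eq_t_pow hz] at e
    rw [inv_eq_of_mul_eq_one_right hc.t_sq] at e
    obtain ⟨x, hx⟩ := hc.full y (mul_inv_eq_iff_eq_mul.1 e)
    exact ⟨x, hx⟩)
  rw [hq, hC, finsum_eq_sum_of_fintype, Fintype.sum_prod_type]
  have hsum : ∀ g : M → ℂ, ∑ y : {y : ι.range // IsConj (ι mT) (y : G)}, g (hc.toM y.1) =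
      ∑ x ∈ Finset.univ.filter (fun x : M => x * x = 1 ∧ x ≠ 1), g x := by
    intro g
    refine Finset.sum_bij (fun y _ => hc.toM y.1) (fun y _ => Finset.mem_filter.2 ⟨Finset.mem_univ _, ?_⟩)
      (fun p _ q _ e => Subtype.ext (hc.toM.injective e)) (fun x hx => ?_) fun _ _ => rfl
    · rw [← hc.isConj_iff_invol, hc.toM_spec]
      exact y.2
    · exact ⟨⟨hc.toM.symm x, (hc.isConj_iff_invol x).2 (Finset.mem_filter.1 hx).2⟩, Finset.mem_univ _,
        hc.toM.apply_symm_apply x⟩
  simp only [map_mul]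
  rw [hsum fun p => ∑ y : {y : ι.range // IsConj (ι mT) (y : G)}, fC i (p * hc.toM y.1),
    Finset.sum_congr rfl fun p _ => hsum fun q => fC i (p * q)]
  have hev : ∑ y ∈ Finset.univ.filter (fun x : M => x * x = 1 ∧ x ≠ 1),
      ∑ z ∈ Finset.univ.filter (fun x : M => x * x = 1 ∧ x ≠ 1), fC i (y * z) = (pairS i : ℂ) := by
    simp only [fC, ← map_sum, pair_fM, evR_int]
  rw [hev, hc.card_range, ← hc.card_class]
  have hk : (Nat.card {x : G // IsConj (ι mT) x} : ℂ) ≠ 0 := by
    have : Nonempty {x : G // IsConj (ι mT) x} := ⟨⟨_, IsConj.refl _⟩⟩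
    exact_mod_cast Nat.card_pos.ne'
  push_cast
  field_simp

theorem dvd_class {x : G → ℂ} (hx : Sg x) {d : ℤ} (hd : x 1 = d) (hd0 : d ≠ 0) (g : G) (v : ℤ)
    (hv : x g = v) (k : ℕ) (hk : Nat.card {y : G // IsConj g y} = k) : d ∣ (k : ℤ) * v := by
  obtain ⟨χ, ε, hε, rfl⟩ := hx.exists_irr
  have hω := isIntegral_omega χ g
  have he : omega (χ : G → ℂ) g = (((k * v : ℤ) : ℚ) / (d : ℚ) : ℚ) := by
    rw [Pi.smul_apply, smul_eq_mul] at hd hv
    have hdC : (d : ℂ) ≠ 0 := by exact_mod_cast hd0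
    rw [omega, hk]
    push_cast
    rw [← hd, ← hv]
    rcases hε with rfl | rfl <;> push_cast <;> field_simp
  rw [he, ← eq_ratCast (algebraMap ℚ ℂ), isIntegral_algebraMap_iff (algebraMap ℚ ℂ).injective,
    IsIntegrallyClosed.isIntegral_iff] at hω
  obtain ⟨z, hz⟩ := hω
  rw [eq_intCast] at hz
  refine ⟨z, ?_⟩
  have hdQ : (d : ℚ) ≠ 0 := by exact_mod_cast hd0
  have : ((k * v : ℤ) : ℚ) = ((d * z : ℤ) : ℚ) := by
    rw [Int.cast_mul d z, hz]
    field_simp
  exact_mod_cast this

/-- The row of a signed irreducible. -/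
noncomputable def rowOf (x : G → ℂ) : List ℤ := (List.range 5).map fun i => iq (Fv hc.toM i) x

/-- The row from the values at the representatives. -/
theorem row_formula {x : G → ℂ} (hx : Sg x) (i : Fin 4) :
    (120 * iq (Fv hc.toM (i.1 + 1)) x : ℂ) =
      ∑ c : Fin 5, (sizeM c : ℂ) * (evR (val i c) * conj (x (ι (repM c)))) := by
  classical
  have hxc : IsClassFunction G x := isClassFunction_of_isGeneralized hx.gen
  have e : Fv hc.toM (i.1 + 1) = indFun ι.range (fun z => fC i (hc.toM z)) := by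
    rw [Fv, if_neg (by omega)]
    congr 2
    funext z
    congr 2
    exact Fin.ext (by simp [Fin.ofNat, Nat.mod_eq_of_lt i.2])
  rw [← iq_spec (hc.Fv_gen _) hx.gen, e, hc.classInner_ind i hxc, ← mul_assoc,
    mul_inv_cancel₀ (by norm_num), one_mul]
  rw [Finset.sum_congr rfl (g := fun z : M => evR (val i (clsM z)) * conj (x (ι (repM (clsM z))))) fun z _ => by
    rw [fC, fM_cls]
    by_cases hz : clsM z = 1
    · rw [hz, val_one, map_zero, zero_mul, zero_mul]
    · obtain ⟨k, hk⟩ := cls_rep z hz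
      congr 2
      conv_lhs => rw [← hk, map_mul, map_mul, map_inv, hxc]]
  rw [← Finset.sum_fiberwise Finset.univ clsM]
  refine Finset.sum_congr rfl fun c _ => ?_
  rw [Finset.sum_congr rfl (g := fun _ => evR (val i c) * conj (x (ι (repM c)))) fun z hz => by
    rw [(Finset.mem_filter.1 hz).2], Finset.sum_const, nsmul_eq_mul, cls_size]

/-- The facts about one signed irreducible. -/
theorem sg_facts {x : G → ℂ} (hx : Sg x) {r : List ℤ} (hr : r = hc.rowOf x) :
    x (ι mT) = (rowT r : ℂ) ∧ ∃ d : ℤ, x 1 = d ∧ d ≠ 0 ∧ (d - rowT r) % 8 = 0 ∧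
      d ∣ (Nat.card G / 120 : ℕ) * rowT r ∧ d ∣ 20 * ((Nat.card G / 120 : ℕ) * rowY r) ∧
      (r.getD 0 0 ≠ 0 → d = r.getD 0 0) := by
  classical
  have hxc : IsClassFunction G x := isClassFunction_of_isGeneralized hx.gen
  have hrow : ∀ i < 5, r.getD i 0 = iq (Fv hc.toM i) x := by
    intro i hi
    rw [hr, rowOf, List.getD_eq_getElem _ _ (by simpa using hi), List.getElem_map, List.getElem_range]
  have hU : ∀ i : Fin 4, (120 * r.getD (i.1 + 1) 0 : ℂ) =
      ∑ c : Fin 5, (sizeM c : ℂ) * (evR (val i c) * conj (x (ι (repM c)))) := fun i => by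
    rw [hrow _ (by omega)]
    exact hc.row_formula hx i
  have u0 := hU 0
  have u1 := hU 1
  have u2 := hU 2
  have u3 := hU 3
  simp only [Fin.sum_univ_five, sizeM, val, repM, Matrix.cons_val_zero, Matrix.cons_val_one, Matrix.cons_val,
    Fin.isValue, evR, AddMonoidHom.coe_mk, ZeroHom.coe_mk, Fin.val_zero, Fin.val_one, Fin.val_two,
    show ((3 : Fin 4) : ℕ) = 3 from rfl, zero_add, Nat.reduceAdd] at u0 u1 u2 u3
  push_cast at u0 u1 u2 u3
  have hY : conj (x (ι (mT * mA b0))) = (rowY r : ℂ) := by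
    rw [rowY]
    push_cast
    linear_combination (-1/120 : ℂ) * u0 + (1/120 : ℂ) * u1
  have hT : conj (x (ι mT)) = (rowT r : ℂ) := by
    rw [rowT]
    push_cast
    linear_combination (-(4 : ℂ)/120) * u0 + (-(5 : ℂ)/120) * u1 + (-(6 : ℂ)/120) * u2 + ((3 : ℂ)/120) * u3
  have hY' : x (ι (mT * mA b0)) = (rowY r : ℂ) := by
    rw [← Complex.conj_conj (x (ι (mT * mA b0))), hY, map_intCast]
  have hT' : x (ι mT) = (rowT r : ℂ) := by rw [← Complex.conj_conj (x (ι mT)), hT, map_intCast]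
  refine ⟨hT', ?_⟩
  obtain ⟨d, hd0, hd⟩ := hx.apply_one_int
  refine ⟨d, hd, hd0, ?_, ?_, ?_, ?_⟩
  · -- the Sylow subgroup
    haveI := Fintype.ofFinite (four ι)
    have hg1 : IsGeneralizedCharacter (four ι) (fun _ => (1 : ℂ)) :=
      isGeneralizedCharacter_of_isCharacter (isCharacter_of_isIrr isIrrCharacter_one)
    obtain ⟨n, hn⟩ := classInner_generalized_int (isGeneralizedCharacter_comp hx.gen (four ι).subtype) hg1
    let ev : Fin 8 ≃ four ι := Equiv.ofBijective (fun i => ⟨sv ι i, sv_mem ι i⟩)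
      ⟨fun a b e => hc.sv_injective (congrArg Subtype.val e),
        fun z => (mem_four ι).1 z.2 |>.elim fun i hi => ⟨i, Subtype.ext hi⟩⟩
    rw [classInner, hc.card_four] at hn
    simp only [map_one, mul_one] at hn
    rw [← Fintype.sum_equiv ev (fun i => x (sv ι i)) _ fun i => rfl] at hn
    have hv : ∀ i : Fin 8, i ≠ 0 → x (sv ι i) = x (ι mT) := by
      intro i hi
      obtain ⟨g, hg⟩ := isConj_iff.1 ((hc.isConj_iff_invol (vM i)).2 (four_invol i hi))
      rw [sv, ← hg, hxc]
    rw [Fin.sum_univ_eight, hv 1 (by decide), hv 2 (by decide), hv 3 (by decide), hv 4 (by decide),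
      hv 5 (by decide), hv 6 (by decide), hv 7 (by decide), sv_zero, hd, hT'] at hn
    have : d + 7 * rowT r = 8 * n := by
      have h8 : ((d + 7 * rowT r : ℤ) : ℂ) = ((8 * n : ℤ) : ℂ) := by
        push_cast
        push_cast at hn
        linear_combination (8 : ℂ) * hn
      exact_mod_cast h8
    omega
  · exact hc.dvd_class hx hd hd0 (ι mT) (rowT r) hT' _ (by have := hc.card_class; omega)
  · rw [show 20 * (((Nat.card G / 120 : ℕ) : ℤ) * rowY r) = ((20 * (Nat.card G / 120) : ℕ) : ℤ) * rowY r by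
      push_cast; ring]
    exact hc.dvd_class hx hd hd0 (ι (mT * mA b0)) (rowY r) hY' _
      (by have := hc.card_class; have := hc.card_class_six; omega)
  · intro h0
    rw [hrow 0 (by norm_num)] at h0 ⊢
    have hone : Fv hc.toM 0 = fun _ => 1 := if_pos rfl
    rw [hone] at h0 ⊢
    rcases (Sg.of_irr ⟨_, isIrrCharacter_one (G := G)⟩).iq_cases hx with h | ⟨h, e⟩ | ⟨h, e⟩
    · exact absurd h h0
    · rw [show iq (fun _ => (1 : ℂ)) x = 1 from h]
      have h1 : (1 : ℂ) = x 1 := congrFun e 1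
      rw [hd] at h1
      exact_mod_cast h1.symm
    · rw [show iq (fun _ => (1 : ℂ)) x = -1 from h]
      have h1 : (1 : ℂ) = -x 1 := congrFun e 1
      rw [hd] at h1
      have : (1 : ℤ) = -d := by exact_mod_cast h1
      omega

end Cent

end CfsgLib.Spor.J1Type
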