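import Cfsg.Agent.Lib.Spor.J1Type.Cases

/-!
# Groups of Janko's first type: the exceptional case does not occur
-/

set_option autoImplicit false
set_option linter.unusedSectionVars false
set_option maxRecDepth 100000
set_option synthInstance.maxSize 4096

namespace CfsgLib.Spor.J1Type

open scoped ComplexConjugate
open Cfsg CfsgLib.Char CfsgLib.Char.Signed CfsgLib.Invol.JTwo.Icosa

universe u

/-- The representatives of the classes of the alternating group. -/
def repA : Fin 5 → A5 := ![1, rA, b0, a0 * b0, (a0 * b0) * (a0 * b0)]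

/-- The class sizes of the alternating group. -/
def sizeA : Fin 5 → ℕ := ![1, 15, 20, 12, 12]

theorem repA_spec : ∀ p : A5, ∃ k : A5, k * repA (clsA p) * k⁻¹ = p := by decide +kernel

theorem sizeA_spec : ∀ c : Fin 5, (Finset.univ.filter fun p : A5 => clsA p = c).card = sizeA c := by decide +kernel

theorem clsA_one : clsA 1 = 0 := by decide +kernel

theorem repA_five : (a0 * b0 : A5) ^ 7 = (a0 * b0) * (a0 * b0) := by decide +kernel

theorem mA_rA_invol : mA rA * mA rA = 1 ∧ mA rA ≠ 1 ∧ (mT * mA rA) * (mT * mA rA) = 1 ∧ mT * mA rA ≠ 1 := by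
  decide +kernel

theorem sum_clsA (w : Fin 5 → ℂ) : ∑ p : A5, w (clsA p) = ∑ c : Fin 5, (sizeA c : ℂ) * w c := by
  classical
  rw [← Finset.sum_fiberwise Finset.univ clsA]
  refine Finset.sum_congr rfl fun c _ => ?_
  rw [Finset.sum_congr rfl (g := fun _ => w c) fun p hp => by rw [(Finset.mem_filter.1 hp).2],
    Finset.sum_const, nsmul_eq_mul, sizeA_spec]

theorem sum_M (f : M → ℂ) : ∑ x : M, f x = ∑ p : A5, (f (mA p) + f (mT * mA p)) := by
  rw [Fintype.sum_prod_type_right]
  refine Finset.sum_congr rfl fun p _ => ?_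
  rw [show (Finset.univ : Finset (Multiplicative (ZMod 2))) = {1, Multiplicative.ofAdd 1} by decide,
    Finset.sum_pair (by decide)]
  simp [mA, mT]

/-- The inner product with a function of the class in the alternating group. -/
theorem inner_snd (w : Fin 5 → ℂ) (ψ : M → ℂ) (hψ : IsClassFunction M ψ) :
    classInner (fun z : M => w (clsA z.2)) ψ =
      (120 : ℂ)⁻¹ * ∑ c : Fin 5, (sizeA c : ℂ) * (w c * (conj (ψ (mA (repA c))) + conj (ψ (mT * mA (repA c))))) := by
  classical
  rw [classInner, card_M, sum_M, Nat.cast_ofNat]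
  congr 1
  rw [← sum_clsA fun c => w c * (conj (ψ (mA (repA c))) + conj (ψ (mT * mA (repA c))))]
  refine Finset.sum_congr rfl fun p _ => ?_
  obtain ⟨k, hk⟩ := repA_spec p
  have e1 : ψ (mA p) = ψ (mA (repA (clsA p))) := by
    conv_lhs => rw [← hk, map_mul, map_mul, map_inv, hψ]
  have e2 : ψ (mT * mA p) = ψ (mT * mA (repA (clsA p))) := by
    conv_lhs => rw [← hk, map_mul, map_mul, map_inv,
      show mT * (mA k * mA (repA (clsA p)) * (mA k)⁻¹) = mA k * (mT * mA (repA (clsA p))) * (mA k)⁻¹ by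
        rw [← mul_assoc, ← mul_assoc, ← mul_assoc, mT_rel.2.2 (mA k)], hψ]
  rw [e1, e2]
  simp only [show (mA p).2 = p from rfl, show (mT * mA p).2 = p from one_mul p]
  ring

/-- A generalized character of the alternating group of norm one gives an irreducible one. -/
theorem exists_irr_five : ∃ φ4 φ5 : A5 → ℂ, IsCharacter A5 φ4 ∧ IsCharacter A5 φ5 ∧
    (∀ p, φ4 p = (![4, 0, 1, -1, -1] : Fin 5 → ℂ) (clsA p)) ∧
    ∀ p, φ5 p = (![5, 1, -1, 0, 0] : Fin 5 → ℂ) (clsA p) := by
  classical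
  obtain ⟨φ, hφ, hv⟩ := exists_phi 0
  obtain ⟨ψ, hψ, hw⟩ := exists_phi 1
  have h4 : ∀ p, φ p = (![4, 0, 1, -1, -1] : Fin 5 → ℂ) (clsA p) := by
    intro p
    have := hv p
    generalize clsA p = c at this ⊢
    fin_cases c <;> simp [val, evR] at this ⊢ <;>
      first
        | linear_combination this
        | linear_combination (1/2 : ℂ) * this
  have h5 : ∀ p, (ψ + fun _ => (1 : ℂ) : A5 → ℂ) p = (![5, 1, -1, 0, 0] : Fin 5 → ℂ) (clsA p) := by
    intro p
    have := hw p
    rw [Pi.add_apply]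
    generalize clsA p = c at this ⊢
    fin_cases c <;> simp [val, evR] at this ⊢ <;>
      first
        | linear_combination this
        | linear_combination (1/2 : ℂ) * this
  have hcard : Nat.card A5 = 60 := by rw [Nat.card_eq_fintype_card]; decide +kernel
  have irr : ∀ (f : A5 → ℂ) (w : Fin 5 → ℂ), IsGeneralizedCharacter A5 f → (∀ p, f p = w (clsA p)) →
      (∑ c : Fin 5, (sizeA c : ℂ) * (w c * conj (w c))) = 60 → 0 < (w 0).re → IsCharacter A5 f := by
    intro f w hf hfw hsum hpos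
    refine isCharacter_of_isIrr (isIrr_of_norm_one hf ?_ (by rwa [hfw, clsA_one]))
    rw [classInner, hcard]
    simp only [hfw]
    rw [sum_clsA fun c => w c * conj (w c), hsum]
    norm_num
  refine ⟨φ, _, irr φ _ hφ h4 ?_ ?_, irr _ _ (isGeneralizedCharacter_add hψ
    (isGeneralizedCharacter_of_isCharacter (isCharacter_of_isIrr isIrrCharacter_one))) h5 ?_ ?_, h4, h5⟩
  all_goals simp [Fin.sum_univ_five, sizeA, map_ofNat]
  all_goals norm_num

namespace Cent

variable {G : Type u} [Group G] [Fintype G] {ι : M →* G} (hc : Cent ι)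

include hc

/-- The order. -/
theorem card_eq [IsSimpleGroup G] : Nat.card G = 175560 := by
  classical
  rcases hc.order_cases with h | ⟨-, x, hx, hr, hd, huniq⟩
  · exact h
  exfalso
  have hxc : IsClassFunction G x := isClassFunction_of_isGeneralized hx.gen
  obtain ⟨n, -, hn⟩ := hx.apply_one_int
  have h1 : x 1 = -35 := by
    rw [dg_eq hn] at hd
    rw [hn, hd]; norm_num
  obtain ⟨χ, ε, hε, hxχ⟩ := hx.exists_irr
  obtain ⟨D, hD, hDe⟩ := isIrrCharacter_degree χ.2
  have hε' : ε = -1 := by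
    rw [hxχ, Pi.smul_apply, smul_eq_mul, hDe] at h1
    have : ε * (D : ℤ) = -35 := by exact_mod_cast h1
    rcases hε with rfl | rfl
    · omega
    · rfl
  subst hε'
  have hval : ∀ g, (χ : G → ℂ) g = -x g := by intro g; simp [hxχ]
  -- the values outside the alternating group
  have hT := (hc.sg_facts hx hr.symm).1
  have hU : ∀ i : Fin 4, (120 * (hc.rowOf x).getD (i.1 + 1) 0 : ℂ) =
      ∑ c : Fin 5, (sizeM c : ℂ) * (evR (val i c) * conj (x (ι (repM c)))) := fun i => by
    rw [← hc.row_formula hx i]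
    congr 2
    rw [rowOf, List.getD_eq_getElem _ _ (by simp; omega), List.getElem_map, List.getElem_range]
  have u0 := hU 0
  have u1 := hU 1
  have u2 := hU 2
  have u3 := hU 3
  simp only [hr, Fin.sum_univ_five, sizeM, val, repM, Matrix.cons_val_zero, Matrix.cons_val_one, Matrix.cons_val,
    Fin.isValue, evR, AddMonoidHom.coe_mk, ZeroHom.coe_mk, Fin.val_zero, Fin.val_one, Fin.val_two,
    show ((3 : Fin 4) : ℕ) = 3 from rfl, zero_add, Nat.reduceAdd, List.getD_cons_succ, List.getD_cons_zero]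
    at u0 u1 u2 u3
  push_cast at u0 u1 u2 u3
  have hTc : conj (x (ι mT)) = 5 := by rw [hT]; simp [rowT, map_ofNat]
  have hYc : conj (x (ι (mT * mA b0))) = -1 := by linear_combination (-1/120 : ℂ) * u0 + (1/120 : ℂ) * u1
  have hs5 : ((Real.sqrt 5 : ℝ) : ℂ) ≠ 0 := by
    intro e
    have := sqrt_five_sq
    rw [e] at this
    norm_num at this
  have hAB : conj (x (ι (mT * mA (a0 * b0)))) = conj (x (ι (mT * mA ((a0 * b0) * (a0 * b0))))) := by
    refine mul_left_cancel₀ hs5 ?_
    linear_combination (-1/24 : ℂ) * u3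
  have hF1 : conj (x (ι (mT * mA (a0 * b0)))) = 0 := by
    rw [hTc, hYc, ← hAB] at u2
    linear_combination (-1/72 : ℂ) * u2
  have hF2 : conj (x (ι (mT * mA ((a0 * b0) * (a0 * b0))))) = 0 := hAB ▸ hF1
  have hinv : ∀ z : M, z * z = 1 ∧ z ≠ 1 → conj (x (ι z)) = 5 := by
    intro z hz
    obtain ⟨g, hg⟩ := isConj_iff.1 ((hc.isConj_iff_invol z).2 hz)
    rw [← hg, hxc]
    exact hTc
  -- invariance under the twist
  obtain ⟨k, hk, hs, hrk, -⟩ := hc.exists_twisted hx
  have hfix : (fun g => x (g ^ k)) = x := huniq _ hs (by rw [hrk, hr]; rfl) (by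
    rw [← hd]; simp [dg])
  have hX : x (ι (mA ((a0 * b0) * (a0 * b0)))) = x (ι (mA (a0 * b0))) := by
    conv_rhs => rw [← hfix]
    show _ = x (ι (mA (a0 * b0)) ^ k)
    rw [← map_pow, ← map_pow, ← repA_five, ← Nat.mod_add_div k 30, hk, pow_add, pow_mul,
      show (a0 * b0 : A5) ^ 30 = 1 by decide +kernel, one_pow, mul_one]
  -- the restriction
  have hχM : IsCharacter M (fun z => (χ : G → ℂ) (ι z)) := isCharacter_comp (isCharacter_irr χ) ι
  have hcf : IsClassFunction M (fun z => (χ : G → ℂ) (ι z)) :=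
    isClassFunction_of_isGeneralized (isGeneralizedCharacter_of_isCharacter hχM)
  set Y0 : ℂ := -conj (x (ι (mA b0))) with hY0
  set X : ℂ := -conj (x (ι (mA (a0 * b0)))) with hX0
  have hinner : ∀ w : Fin 5 → ℂ, classInner (fun z : M => w (clsA z.2)) (fun z => (χ : G → ℂ) (ι z)) =
      (120 : ℂ)⁻¹ * (30 * w 0 - 150 * w 1 + 20 * (Y0 + 1) * w 2 + 12 * X * w 3 + 12 * X * w 4) := by
    intro w
    rw [inner_snd w _ hcf]
    congr 1
    simp only [Fin.sum_univ_five, sizeA, repA, Matrix.cons_val_zero, Matrix.cons_val_one, Matrix.cons_val,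
      Fin.isValue, map_one, mul_one, hval, map_neg, hF1, hF2, hYc, hTc,
      hinv _ ⟨mA_rA_invol.1, mA_rA_invol.2.1⟩, hinv _ ⟨mA_rA_invol.2.2.1, mA_rA_invol.2.2.2⟩, hX, h1,
      map_ofNat, hY0, hX0]
    push_cast
    ring
  obtain ⟨φ4, φ5, hc4, hc5, hv4, hv5⟩ := exists_irr_five
  obtain ⟨φ, hφ, hvφ⟩ := exists_phi 2
  have hv1 : ∀ p, φ p = evR (val 2 (clsA p)) / 2 := fun p => by rw [← hvφ p]; ring
  obtain ⟨n1, e1⟩ := classInner_isCharacter (isCharacter_of_isIrr (isIrrCharacter_one (G := M))) hχM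
  obtain ⟨n2, e2⟩ := classInner_isCharacter (isCharacter_comp hc4 (MonoidHom.snd _ _)) hχM
  obtain ⟨n3, e3⟩ := classInner_isCharacter (isCharacter_comp hc5 (MonoidHom.snd _ _)) hχM
  obtain ⟨n4, e4⟩ := classInner_generalized_int (isGeneralizedCharacter_comp hφ (MonoidHom.snd _ _))
    (isGeneralizedCharacter_of_isCharacter hχM)
  simp only [MonoidHom.coe_snd, hv4, hv5, hv1] at e2 e3 e4
  rw [hinner fun _ => 1] at e1
  rw [hinner] at e2 e3
  rw [hinner fun c => evR (val 2 c) / 2] at e4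
  simp only [val, evR, AddMonoidHom.coe_mk, ZeroHom.coe_mk, Matrix.cons_val_zero, Matrix.cons_val_one,
    Matrix.cons_val, Fin.isValue] at e2 e3 e4
  push_cast at e4
  have s0 : ((2 * n3 + n1 + n2 : ℕ) : ℂ) = ((0 : ℕ) : ℂ) := by
    push_cast
    linear_combination (-2 : ℂ) * e3 - e1 - e2
  have s1 : 2 * n3 + n1 + n2 = 0 := by exact_mod_cast s0
  obtain rfl : n1 = 0 := by omega
  obtain rfl : n3 = 0 := by omega
  have s2 : ((2 * n4 : ℤ) : ℂ) = ((5 : ℤ) : ℂ) := by
    push_cast at e1 e3 ⊢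
    linear_combination (-2 : ℂ) * e4 + (3 : ℂ) * e1 + e3
  have s3 : 2 * n4 = 5 := by exact_mod_cast s2
  omega

end Cent

end CfsgLib.Spor.J1Type
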