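import Cfsg.Agent.Lib.Invol.JTwo.Icosa

/-!
# Groups of Janko's first type: the centraliser of an involution as a concrete group
-/

set_option autoImplicit false
set_option maxRecDepth 100000
set_option synthInstance.maxSize 4096

namespace CfsgLib.Spor.J1Type

open CfsgLib.Invol.JTwo.Icosa

/-- The alternating group of degree five. -/
abbrev A5 := ↥(alternatingGroup (Fin 5))

/-- The centraliser. -/
abbrev M := Multiplicative (ZMod 2) × A5

/-- The central involution. -/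
def mT : M := (Multiplicative.ofAdd 1, 1)

/-- The alternating group in the centraliser. -/
def mA : A5 →* M := MonoidHom.inr _ _

/-- An involution. -/
def rA : A5 := b0⁻¹ * a0 * b0 * a0 * b0⁻¹ * a0 * b0

/-- Its image under the element of order three. -/
def sA : A5 := a0 * b0 * a0 * b0⁻¹ * a0

/-- An element of order three inverted by the involution. -/
def yA : A5 := a0 * b0⁻¹ * a0

/-- The four elements of order five that are to be considered. -/
def pA : Fin 4 → A5 :=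
  ![b0⁻¹ * a0 * b0 * a0 * b0⁻¹, a0 * b0 * a0 * b0⁻¹, a0 * b0, a0 * b0⁻¹ * a0 * b0 * a0 * b0⁻¹ * a0]

theorem gens_rel : a0 * a0 = 1 ∧ b0 * b0 * b0 = 1 ∧ (a0 * b0) ^ 5 = 1 ∧ a0 ≠ 1 ∧ b0 ≠ 1 := by decide +kernel

theorem four_rel : rA * rA = 1 ∧ rA ≠ 1 ∧ sA * sA = 1 ∧ sA ≠ 1 ∧ rA * sA = sA * rA ∧ sA ≠ rA ∧
    b0 * rA * b0⁻¹ = sA ∧ b0 * sA * b0⁻¹ = rA * sA ∧ b0 * (rA * sA) * b0⁻¹ = rA := by decide +kernel

theorem y_rel : yA * yA * yA = 1 ∧ yA ≠ 1 ∧ rA * yA * rA = yA⁻¹ := by decide +kernel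

theorem five_first : ∀ p : A5, p ^ 5 = 1 → p ≠ 1 → sA * p * sA = p⁻¹ →
    ∃ k : Fin 5, p ^ k.1 = pA 0 ∨ p ^ k.1 = pA 1 := by decide +kernel

theorem five_second : ∀ p : A5, p ^ 5 = 1 → p ≠ 1 → rA * sA * p * (rA * sA) = p⁻¹ →
    ∃ k : Fin 5, p ^ k.1 = pA 2 ∨ p ^ k.1 = pA 3 := by decide +kernel

theorem pA_facts : ∀ i, (pA i) ^ 5 = 1 ∧ pA i ≠ 1 := by decide +kernel

theorem mT_rel : mT * mT = 1 ∧ mT ≠ 1 ∧ ∀ x : M, mT * x = x * mT := by decide +kernel

theorem card_M : Nat.card M = 120 := by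
  rw [Nat.card_eq_fintype_card]; decide +kernel

theorem mA_injective : Function.Injective mA := fun p q h => (congrArg Prod.snd h : _)

theorem mem_cases : ∀ x : M, ∃ p : A5, x = mA p ∨ x = mT * mA p := by decide +kernel

theorem invol_cases : ∀ x : M, x * x = 1 → x = 1 ∨ x = mT ∨
    ∃ c : M, c * x * c⁻¹ = mA rA ∨ c * x * c⁻¹ = mT * mA rA := by decide +kernel

theorem centre : ∀ x : M, x * x = 1 → x ≠ 1 → (∀ y, x * y = y * x) → x = mT := by decide +kernel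

/-- The eight elements of the Sylow subgroup. -/
def vM (i : Fin 8) : M := mT ^ (i.1 % 2) * mA (rA ^ (i.1 / 2 % 2) * sA ^ (i.1 / 4))

/-- The addition on the eight indices. -/
def vAdd (i j : Fin 8) : Fin 8 := ⟨(i.1 ^^^ j.1) % 8, Nat.mod_lt _ (by norm_num)⟩

/-- The action of the element of order three on the indices. -/
def bOp : Fin 8 → Fin 8 := ![0, 1, 4, 5, 6, 7, 2, 3]

/-- The linear map with the given images. -/
def lin (p q : Fin 8) (i : Fin 8) : Fin 8 :=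
  vAdd (if i.1 % 2 = 1 then 2 else 0) (vAdd (if i.1 / 2 % 2 = 1 then p else 0) (if i.1 / 4 = 1 then q else 0))

theorem vM_mul : ∀ i j, vM i * vM j = vM (vAdd i j) := by decide +kernel

theorem vM_inj : ∀ i j, vM i = vM j → i = j := by decide +kernel

theorem vM_vals : vM 0 = 1 ∧ vM 1 = mT ∧ vM 2 = mA rA ∧ vM 3 = mT * mA rA ∧ vM 4 = mA sA ∧ vM 6 = mA (rA * sA) := by
  decide +kernel

theorem vM_split : ∀ i : Fin 8, vM i = vM (if i.1 % 2 = 1 then 1 else 0) *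
    (vM (if i.1 / 2 % 2 = 1 then 2 else 0) * vM (if i.1 / 4 = 1 then 4 else 0)) := by decide +kernel

theorem vM_conj : ∀ i, mA b0 * vM i * (mA b0)⁻¹ = vM (bOp i) := by decide +kernel

theorem vM_centralizer : ∀ x : M, x * mA rA = mA rA * x → x * mA sA = mA sA * x → ∃ i, x = vM i := by
  decide +kernel

theorem vM_normalizer : ∀ x : M, (∃ i, x * mA rA * x⁻¹ = vM i) → (∃ i, x * mA sA * x⁻¹ = vM i) →
    ∃ i, ∃ l : Fin 3, x = vM i * mA b0 ^ l.1 := by decide +kernel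

theorem vM_mem_normalizer : ∀ (i j : Fin 8) (l : Fin 3),
    ∃ k, vM i * mA b0 ^ l.1 * vM j * (vM i * mA b0 ^ l.1)⁻¹ = vM k := by decide +kernel

theorem vM_b_inj : ∀ (i i' : Fin 8) (l l' : Fin 3),
    vM i * mA b0 ^ l.1 = vM i' * mA b0 ^ l'.1 → i = i' ∧ l = l' := by decide +kernel

theorem lin_options : ∀ p q : Fin 8, (∀ i, (lin p q)^[7] i = i) →
    (∃ k : Fin 7, ∀ i, bOp (lin p q i) = (lin p q)^[k.1] (bOp i)) → p = 4 ∧ q = 3 ∨ p = 6 ∧ q = 5 := by
  decide +kernel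

theorem lin_power : ∀ k : Fin 7, (∀ i, bOp (lin 4 3 i) = (lin 4 3)^[k.1] (bOp i)) → k = 2 := by
  decide +kernel

theorem flip : ∃ σ : Equiv.Perm (Fin 5), MulAut.conjNormal σ b0 = b0⁻¹ ∧ MulAut.conjNormal σ rA = rA := by
  decide +kernel

theorem centralizer_y : ∀ x : M, x * mA yA = mA yA * x → ∃ i : Fin 2, ∃ j : Fin 3, x = mT ^ i.1 * mA yA ^ j.1 := by
  decide +kernel

theorem orders : ∀ x : M, x ^ 30 = 1 ∧ (x ^ 4 = 1 → x * x = 1) := by decide +kernel

end CfsgLib.Spor.J1Type
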