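import Cfsg.Agent.Lib.Spor.J1Type.Model
import Cfsg.Agent.Lib.Char.Virtual
import Cfsg.Agent.Lib.Char.Induction
import Cfsg.Agent.Lib.Char.Perm
import Mathlib.RingTheory.RootsOfUnity.Complex

/-!
# Groups of Janko's first type: four generalized characters of the centraliser
-/

set_option autoImplicit false
set_option maxRecDepth 100000
set_option synthInstance.maxSize 4096
set_option linter.unusedSectionVars false

namespace CfsgLib.Spor.J1Type

open scoped ComplexConjugate
open Cfsg CfsgLib.Char CfsgLib.Invol.JTwo.Icosa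

/-- The class of an element of the alternating group. -/
def clsA (p : A5) : Fin 5 :=
  if p = 1 then 0 else if p * p = 1 then 1 else if p * p * p = 1 then 2
    else if ∃ k : A5, k * (a0 * b0) * k⁻¹ = p then 3 else 4

/-- The values `(u, v)`, standing for `u + v √5`, of the four functions on the classes. -/
def val : Fin 4 → Fin 5 → ℤ × ℤ :=
  ![![(8, 0), (0, 0), (2, 0), (-2, 0), (-2, 0)], ![(8, 0), (0, 0), (-4, 0), (-2, 0), (-2, 0)],
    ![(8, 0), (0, 0), (2, 0), (3, 1), (3, -1)], ![(0, 0), (0, 0), (0, 0), (0, 2), (0, -2)]]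

/-- The functions on the centraliser. -/
def fM (i : Fin 4) (x : M) : ℤ × ℤ := if x.1 = 1 then 0 else val i (clsA x.2)

/-- The value of a pair. -/
noncomputable def evR : ℤ × ℤ →+ ℂ where
  toFun p := (p.1 : ℂ) + (p.2 : ℂ) * ((Real.sqrt 5 : ℝ) : ℂ)
  map_zero' := by simp
  map_add' p q := by push_cast [Prod.fst_add, Prod.snd_add]; ring

theorem sqrt_five_sq : ((Real.sqrt 5 : ℝ) : ℂ) * ((Real.sqrt 5 : ℝ) : ℂ) = 5 := by
  rw [← Complex.ofReal_mul, Real.mul_self_sqrt (by norm_num)]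
  norm_num

theorem evR_conj (p : ℤ × ℤ) : conj (evR p) = evR p := by
  show conj ((p.1 : ℂ) + (p.2 : ℂ) * ((Real.sqrt 5 : ℝ) : ℂ)) = _
  rw [map_add, map_mul, map_intCast, map_intCast, Complex.conj_ofReal]
  rfl

/-- The product of pairs. -/
def pmul5 (x y : ℤ × ℤ) : ℤ × ℤ := (x.1 * y.1 + 5 * (x.2 * y.2), x.1 * y.2 + x.2 * y.1)

theorem evR_mul (x y : ℤ × ℤ) : evR x * evR y = evR (pmul5 x y) := by
  show ((x.1 : ℂ) + (x.2 : ℂ) * _) * ((y.1 : ℂ) + (y.2 : ℂ) * _) =
    (((x.1 * y.1 + 5 * (x.2 * y.2) : ℤ) : ℂ)) + ((x.1 * y.2 + x.2 * y.1 : ℤ) : ℂ) * _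
  push_cast
  linear_combination ((x.2 : ℂ) * (y.2 : ℂ)) * sqrt_five_sq

theorem evR_int (n : ℤ) : evR (n, 0) = n := by
  show (n : ℂ) + ((0 : ℤ) : ℂ) * _ = _
  simp

/-- The function with complex values. -/
noncomputable def fC (i : Fin 4) (x : M) : ℂ := evR (fM i x)

/-- A linear character of a cyclic subgroup, extended by zero and summed over conjugates. -/
theorem indFun_cyclic {A : Type*} [Group A] [Fintype A] (w : A) {q : ℕ} (hq : orderOf w = q) (ζ : ℂˣ)
    (hζ : ζ ^ q = 1) :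
    ∃ θ : Subgroup.zpowers w →* ℂˣ, ∀ g : A,
      indFun (Subgroup.zpowers w) (fun z => ((θ z : ℂˣ) : ℂ)) g =
        (q : ℂ)⁻¹ * ∑ j : Fin q, (Nat.card {x : A // x⁻¹ * g * x = w ^ j.1} : ℂ) * (ζ : ℂ) ^ j.1 := by
  classical
  let w' : Subgroup.zpowers w := ⟨w, Subgroup.mem_zpowers w⟩
  have hgen : ∀ z : Subgroup.zpowers w, z ∈ Subgroup.zpowers w' := by
    rintro ⟨z, n, rfl⟩
    exact ⟨n, Subtype.ext (by simp [w'])⟩
  have ho : orderOf ζ ∣ orderOf w' := by
    rw [show orderOf w' = q by rw [← hq]; exact (Subgroup.orderOf_coe w').symm]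
    exact orderOf_dvd_of_pow_eq_one hζ
  refine ⟨monoidHomOfForallMemZpowers hgen ho, fun g => ?_⟩
  have hval : ∀ j : ℕ, ∀ h : w ^ j ∈ Subgroup.zpowers w,
      ((monoidHomOfForallMemZpowers hgen ho ⟨w ^ j, h⟩ : ℂˣ) : ℂ) = (ζ : ℂ) ^ j := by
    intro j h
    rw [show (⟨w ^ j, h⟩ : Subgroup.zpowers w) = w' ^ j from Subtype.ext (by simp [w']), map_pow,
      monoidHomOfForallMemZpowers_apply_gen, Units.val_pow_eq_pow_val]
  have hcard : Nat.card (Subgroup.zpowers w) = q := by rw [Nat.card_zpowers, hq]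
  rw [indFun, hcard]
  congr 1
  have hpt : ∀ z : A, extendByZero (Subgroup.zpowers w)
      (fun z => ((monoidHomOfForallMemZpowers hgen ho z : ℂˣ) : ℂ)) z =
      ∑ j : Fin q, if z = w ^ j.1 then (ζ : ℂ) ^ j.1 else 0 := by
    intro z
    by_cases hz : z ∈ Subgroup.zpowers w
    · obtain ⟨j, hj, rfl⟩ := Finset.mem_image.1 ((isOfFinOrder_of_finite w).mem_zpowers_iff_mem_range_orderOf.1 hz)
      rw [Finset.mem_range, hq] at hj
      rw [extendByZero_mem _ _ hz, hval j hz, Finset.sum_eq_single ⟨j, hj⟩ (fun b _ hb => if_neg fun e =>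
        hb (Fin.ext ((pow_injOn_Iio_orderOf (by rw [hq]; exact b.2) (by rw [hq]; exact hj) e.symm))))
        (fun h => absurd (Finset.mem_univ _) h), if_pos rfl]
    · rw [extendByZero_not_mem _ _ hz, Finset.sum_eq_zero fun j _ => if_neg fun e =>
        hz (by rw [e]; exact Subgroup.npow_mem_zpowers w j.1)]
  rw [Finset.sum_congr rfl fun x _ => hpt _, Finset.sum_comm]
  refine Finset.sum_congr rfl fun j _ => ?_
  rw [← Finset.sum_filter, Finset.sum_const, nsmul_eq_mul, ← Fintype.card_subtype, ← Nat.card_eq_fintype_card]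

/-- The element of order five. -/
def wFive : A5 := a0 * b0

theorem orderOf_five : orderOf wFive = 5 := by
  haveI : Fact (Nat.Prime 5) := ⟨by norm_num⟩
  exact orderOf_eq_prime (by decide +kernel) (by decide +kernel)

theorem orderOf_three : orderOf b0 = 3 := by
  haveI : Fact (Nat.Prime 3) := ⟨by norm_num⟩
  exact orderOf_eq_prime (by decide +kernel) (by decide +kernel)

theorem count_five : ∀ g : A5, ∀ j : Fin 5, Fintype.card {x : A5 // x⁻¹ * g * x = wFive ^ j.1} =
    (![![60, 0, 0, 0, 0], ![0, 0, 0, 0, 0], ![0, 0, 0, 0, 0], ![0, 5, 0, 0, 5], ![0, 0, 5, 5, 0]] :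
      Fin 5 → Fin 5 → ℕ) (clsA g) j := by
  decide +kernel

theorem count_three : ∀ g : A5, ∀ j : Fin 3, Fintype.card {x : A5 // x⁻¹ * g * x = b0 ^ j.1} =
    (![![60, 0, 0], ![0, 0, 0], ![0, 3, 3], ![0, 0, 0], ![0, 0, 0]] : Fin 5 → Fin 3 → ℕ) (clsA g) j := by
  decide +kernel

theorem count_points : ∀ g : A5, Fintype.card {i : Fin 5 // g • i = i} =
    (![5, 1, 2, 0, 0] : Fin 5 → ℕ) (clsA g) := by
  decide +kernel

theorem exists_zeta : ∃ ζ : ℂ, ζ ^ 5 = 1 ∧ 1 + ζ + ζ ^ 2 + ζ ^ 3 + ζ ^ 4 = 0 ∧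
    ζ + ζ ^ 4 - ζ ^ 2 - ζ ^ 3 = ((Real.sqrt 5 : ℝ) : ℂ) := by
  have hp := Complex.isPrimitiveRoot_exp 5 (by norm_num)
  set z := Complex.exp (2 * Real.pi * Complex.I / (5 : ℕ)) with hz
  have h5 : z ^ 5 = 1 := hp.pow_eq_one
  have hs : 1 + z + z ^ 2 + z ^ 3 + z ^ 4 = 0 := by
    have := hp.geom_sum_eq_zero (by norm_num)
    simpa [Finset.sum_range_succ] using this
  have hsq : (z + z ^ 4 - z ^ 2 - z ^ 3) ^ 2 = ((Real.sqrt 5 : ℝ) : ℂ) ^ 2 := by
    rw [sq ((Real.sqrt 5 : ℝ) : ℂ), sqrt_five_sq]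
    linear_combination (z ^ 3 - 2 * z ^ 2 - z + 4) * h5 - hs
  rcases eq_or_eq_neg_of_sq_eq_sq _ _ hsq with h | h
  · exact ⟨z, h5, hs, h⟩
  · refine ⟨z ^ 2, ?_, ?_, ?_⟩
    · linear_combination (z ^ 5 + 1) * h5
    · linear_combination hs + (z ^ 3 + z) * h5
    · linear_combination -h + (z ^ 3 - z) * h5

/-- The halves of the four functions on the alternating group. -/
theorem exists_phi (i : Fin 4) :
    ∃ φ : A5 → ℂ, IsGeneralizedCharacter A5 φ ∧ ∀ g, φ g * 2 = evR (val i (clsA g)) := by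
  classical
  obtain ⟨ζ, hζ5, hζs, hζd⟩ := exists_zeta
  have hω := Complex.isPrimitiveRoot_exp 3 (by norm_num)
  set ω := Complex.exp (2 * Real.pi * Complex.I / (3 : ℕ))
  have hωs : 1 + ω + ω ^ 2 = 0 := by
    have := hω.geom_sum_eq_zero (by norm_num)
    simpa [Finset.sum_range_succ] using this
  obtain ⟨ζu, hζu⟩ : IsUnit ζ := IsUnit.of_pow_eq_one hζ5 (by norm_num)
  obtain ⟨ωu, hωu⟩ : IsUnit ω := IsUnit.of_pow_eq_one hω.pow_eq_one (by norm_num)
  obtain ⟨θ1, hθ1⟩ := indFun_cyclic wFive orderOf_five ζu (Units.ext (by simp [hζu, hζ5]))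
  obtain ⟨θ2, hθ2⟩ := indFun_cyclic wFive orderOf_five (ζu ^ 2) (Units.ext (by
    simp only [Units.val_pow_eq_pow_val, Units.val_one, hζu, ← pow_mul]
    rw [show 2 * 5 = 5 * 2 from rfl, pow_mul, hζ5, one_pow]))
  obtain ⟨η0, hη0⟩ := indFun_cyclic b0 orderOf_three 1 (one_pow _)
  obtain ⟨η1, hη1⟩ := indFun_cyclic b0 orderOf_three ωu (Units.ext (by simp [hωu, hω.pow_eq_one]))
  have hind : ∀ {H : Subgroup A5} (θ : H →* ℂˣ),
      IsGeneralizedCharacter A5 (indFun H (fun z => ((θ z : ℂˣ) : ℂ))) := fun θ =>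
    isGeneralizedCharacter_indFun _ (isGeneralizedCharacter_of_isCharacter (isCharacter_of_isIrr (isIrrCharacter_lin θ)))
  have h1 : IsGeneralizedCharacter A5 (fun _ => (1 : ℂ)) :=
    isGeneralizedCharacter_of_isCharacter (isCharacter_of_isIrr isIrrCharacter_one)
  set φ2 : A5 → ℂ := permChar A5 (Fin 5) - fun _ => 1 with hφ2
  have g2 : IsGeneralizedCharacter A5 φ2 :=
    isGeneralizedCharacter_sub (isGeneralizedCharacter_of_isCharacter (isCharacter_permChar _)) h1
  set φ4 : A5 → ℂ := φ2 - (indFun _ (fun z => ((η0 z : ℂˣ) : ℂ)) - indFun _ (fun z => ((η1 z : ℂˣ) : ℂ))) with hφ4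
  have g4 : IsGeneralizedCharacter A5 φ4 := isGeneralizedCharacter_sub g2 (isGeneralizedCharacter_sub (hind η0) (hind η1))
  set φ1 : A5 → ℂ := indFun _ (fun z => ((θ1 z : ℂˣ) : ℂ)) - φ2 - φ4 with hφ1
  have g1 : IsGeneralizedCharacter A5 φ1 := isGeneralizedCharacter_sub (isGeneralizedCharacter_sub (hind θ1) g2) g4
  set φ3 : A5 → ℂ := indFun _ (fun z => ((θ1 z : ℂˣ) : ℂ)) - indFun _ (fun z => ((θ2 z : ℂˣ) : ℂ)) with hφ3
  have g3 : IsGeneralizedCharacter A5 φ3 := isGeneralizedCharacter_sub (hind θ1) (hind θ2)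
  have hp6 : ζ ^ 6 = ζ := by linear_combination ζ * hζ5
  have hp8 : ζ ^ 8 = ζ ^ 3 := by linear_combination ζ ^ 3 * hζ5
  have hv : ∀ g : A5, ![φ2, φ4, φ1, φ3] i g * 2 = evR (val i (clsA g)) := by
    intro g
    have hperm : permChar A5 (Fin 5) g = ((![5, 1, 2, 0, 0] : Fin 5 → ℕ) (clsA g) : ℂ) := by
      rw [← count_points g, permChar, ← Nat.card_eq_fintype_card]
      rfl
    have hc5 : ∀ j : Fin 5, Nat.card {x : A5 // x⁻¹ * g * x = wFive ^ j.1} = _ := fun j =>
      Nat.card_eq_fintype_card.trans (count_five g j)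
    have hc3 : ∀ j : Fin 3, Nat.card {x : A5 // x⁻¹ * g * x = b0 ^ j.1} = _ := fun j =>
      Nat.card_eq_fintype_card.trans (count_three g j)
    have e1 := hθ1 g
    have e2 := hθ2 g
    have e3 := hη0 g
    have e4 := hη1 g
    simp only [hc5, Fin.sum_univ_five, Units.val_pow_eq_pow_val, hζu] at e1 e2
    simp only [hc3, Fin.sum_univ_three, Units.val_one, hωu] at e3 e4
    fin_cases i <;> simp only [Fin.zero_eta, Fin.mk_one, Fin.reduceFinMk, Matrix.cons_val_zero,
      Matrix.cons_val_one, Matrix.cons_val, hφ1, hφ2, hφ3, hφ4, Pi.sub_apply, hperm, e1, e2, e3, e4, val] <;>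
      generalize clsA g = c <;> fin_cases c <;>
      simp only [evR, AddMonoidHom.coe_mk, ZeroHom.coe_mk, Fin.zero_eta, Fin.mk_one, Fin.reduceFinMk,
        Matrix.cons_val_zero, Matrix.cons_val_one, Matrix.cons_val, Fin.val_zero, Fin.val_one,
        Fin.val_two, Fin.coe_ofNat_eq_mod, Nat.reduceMod] <;>
      push_cast <;>
      first
        | ring1
        | linear_combination 2 * hωs
        | linear_combination -2 * hωs
        | linear_combination hζs + hζd
        | linear_combination hζs - hζd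
        | linear_combination 2 * hζd + (2 * ζ ^ 3 - 2 * ζ) * hζ5
        | linear_combination 2 * hζd - (2 * ζ ^ 3 + 2 * ζ) * hζ5
        | linear_combination -2 * hζd + (2 * ζ ^ 3 - 2 * ζ) * hζ5
        | (ring_nf
           (try simp only [hp6, hp8])
           first
             | linear_combination hζs + hζd
             | linear_combination hζs - hζd
             | linear_combination 2 * hζd
             | linear_combination -2 * hζd
             | linear_combination -4 * hζd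
             | linear_combination 4 * hζd
             | linear_combination 2 * (hζs + hζd)
             | linear_combination 2 * (hζs - hζd))
  refine ⟨![φ2, φ4, φ1, φ3] i, ?_, hv⟩
  fin_cases i <;> assumption

/-- The four functions are generalized characters. -/
theorem fC_gen (i : Fin 4) : IsGeneralizedCharacter M (fC i) := by
  classical
  obtain ⟨φ, hφ, hv⟩ := exists_phi i
  let lam : M →* ℂˣ :=
    { toFun := fun x => if x.1 = 1 then 1 else -1
      map_one' := if_pos rfl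
      map_mul' := fun x y => by
        rcases (show ∀ z : Multiplicative (ZMod 2), z = 1 ∨ z = Multiplicative.ofAdd 1 by decide) x.1 with hx | hx <;>
          rcases (show ∀ z : Multiplicative (ZMod 2), z = 1 ∨ z = Multiplicative.ofAdd 1 by decide) y.1 with hy | hy <;>
            rw [Prod.fst_mul, hx, hy] <;>
            simp [show (Multiplicative.ofAdd (1 : ZMod 2)) * Multiplicative.ofAdd 1 = 1 by decide,
              show (Multiplicative.ofAdd (1 : ZMod 2)) ≠ 1 by decide] }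
  have glam : IsGeneralizedCharacter M ((fun _ => (1 : ℂ)) - fun x => ((lam x : ℂˣ) : ℂ)) :=
    isGeneralizedCharacter_sub (isGeneralizedCharacter_of_isCharacter (isCharacter_of_isIrr isIrrCharacter_one))
      (isGeneralizedCharacter_of_isCharacter (isCharacter_of_isIrr (isIrrCharacter_lin lam)))
  have heq : fC i = ((fun _ => (1 : ℂ)) - fun x => ((lam x : ℂˣ) : ℂ)) *
      fun x : M => φ (MonoidHom.snd _ _ x) := by
    funext x
    rw [fC, fM]
    by_cases hx : x.1 = 1
    · simp [lam, hx]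
    · rw [if_neg hx, ← hv]
      simp [lam, hx]
      ring
  rw [heq]
  exact isGeneralizedCharacter_mul glam (isGeneralizedCharacter_comp hφ _)

end CfsgLib.Spor.J1Type
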