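import Cfsg.Agent.Lib.Spor.J1Type.ModelChar

/-!
# Groups of Janko's first type: evaluations on the centraliser
-/

set_option autoImplicit false
set_option maxRecDepth 100000
set_option synthInstance.maxSize 4096
set_option linter.unusedSectionVars false

namespace CfsgLib.Spor.J1Type

open CfsgLib.Invol.JTwo.Icosa

/-- The inner products of the four functions. -/
def gramF : List (List ℤ) := [[2, 0, 0, 0], [0, 4, -2, 0], [0, -2, 4, 2], [0, 0, 2, 4]]

/-- The inner products of the four functions with the trivial function. -/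
def oneF : Fin 4 → ℤ := ![0, -1, 1, 0]

/-- The sums over the pairs of involutions. -/
def pairS : Fin 4 → ℤ := ![0, -720, 1200, 0]

/-- The class of an element, outside the alternating group. -/
def clsM (x : M) : Fin 5 := if x.1 = 1 then 1 else clsA x.2

/-- The representatives of the classes. -/
def repM : Fin 5 → M := ![mT, mT * mA rA, mT * mA b0, mT * mA (a0 * b0), mT * mA ((a0 * b0) * (a0 * b0))]

/-- The class sizes. -/
def sizeM : Fin 5 → ℕ := ![1, 75, 20, 12, 12]

theorem gram_fM : ∀ i j : Fin 4, ∑ x : M, pmul5 (fM i x) (fM j x) =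
    (120 * (gramF.getD i.1 []).getD j.1 0, 0) := by decide +kernel

theorem one_fM : ∀ i : Fin 4, ∑ x : M, fM i x = (120 * oneF i, 0) := by decide +kernel

theorem supp_fM : ∀ (i : Fin 4) (x : M), fM i x ≠ 0 → x ^ 15 = mT := by decide +kernel

theorem fM_cls : ∀ (i : Fin 4) (x : M), fM i x = val i (clsM x) := by decide +kernel

theorem cls_rep : ∀ x : M, clsM x ≠ 1 → ∃ k : M, k * repM (clsM x) * k⁻¹ = x := by decide +kernel

theorem cls_size : ∀ c : Fin 5, (Finset.univ.filter fun x : M => clsM x = c).card = sizeM c := by decide +kernel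

theorem val_one : ∀ i : Fin 4, val i 1 = 0 := by decide +kernel

theorem pair_fM : ∀ i : Fin 4,
    ∑ y ∈ Finset.univ.filter (fun x : M => x * x = 1 ∧ x ≠ 1),
      ∑ z ∈ Finset.univ.filter (fun x : M => x * x = 1 ∧ x ≠ 1), fM i (y * z) = (pairS i, 0) := by
  decide +kernel

theorem card_centralizer_six : Fintype.card {x : M // x * (mT * mA b0) = mT * mA b0 * x} = 6 := by decide +kernel

theorem cube_six : (mT * mA b0) ^ 3 = mT := by decide +kernel

theorem four_invol : ∀ i : Fin 8, i ≠ 0 → vM i * vM i = 1 ∧ vM i ≠ 1 := by decide +kernel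

end CfsgLib.Spor.J1Type
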