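import Cfsg.Agent.Lib.Spor.J1Type.Model
import Mathlib.GroupTheory.Transfer
import Mathlib.GroupTheory.Sylow

/-!
# Groups of Janko's first type: fusion of involutions and the normaliser of a Sylow 2-subgroup
-/

set_option autoImplicit false

namespace CfsgLib.Spor.J1Type

open Subgroup CfsgLib.Invol.JTwo.Icosa

variable {G : Type*} [Group G]

/-- An embedding of the concrete group as the centraliser of an involution. -/
structure Cent (ι : M →* G) : Prop where
  inj : Function.Injective ι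
  full : ∀ g : G, g * ι mT = ι mT * g → ∃ x, ι x = g
  sixteen : ¬ 16 ∣ Nat.card G

/-- An involution with the given centraliser gives an embedding. -/
theorem exists_cent [Finite G] {t : G} (ht : orderOf t = 2) (h16 : ¬ 16 ∣ Nat.card G)
    (e : Subgroup.centralizer ({t} : Set G) ≃* Multiplicative (ZMod 2) × alternatingGroup (Fin 5)) :
    ∃ ι : M →* G, Cent ι ∧ ι mT = t := by
  let ι : M →* G := (centralizer ({t} : Set G)).subtype.comp e.symm.toMonoidHom
  have hinj : Function.Injective ι := Subtype.val_injective.comp e.symm.injective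
  have htC : t ∈ centralizer ({t} : Set G) := mem_centralizer_singleton_iff.2 rfl
  have h0 : ι (e ⟨t, htC⟩) = t := congrArg Subtype.val (e.symm_apply_apply ⟨t, htC⟩)
  have hx : e ⟨t, htC⟩ = mT := by
    refine centre _ ?_ ?_ fun y => ?_
    · rw [← map_mul, map_eq_one_iff e e.injective]
      refine Subtype.ext ?_
      show t * t = 1
      rw [← sq, ← ht, pow_orderOf_eq_one]
    · intro h
      rw [h, map_one] at h0
      rw [← h0, orderOf_one] at ht
      omega
    · refine hinj ?_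
      rw [map_mul, map_mul, h0]
      exact (mem_centralizer_singleton_iff.1 (e.symm y).2).symm
  rw [hx] at h0
  refine ⟨ι, ⟨hinj, fun g hg => ?_, h16⟩, h0⟩
  rw [h0] at hg
  refine ⟨e ⟨g, mem_centralizer_singleton_iff.2 hg⟩, ?_⟩
  exact congrArg Subtype.val (e.symm_apply_apply _)

variable (ι : M →* G)

/-- An element of the Sylow subgroup. -/
def sv (i : Fin 8) : G := ι (vM i)

theorem sv_mul (i j : Fin 8) : sv ι i * sv ι j = sv ι (vAdd i j) := by rw [sv, sv, ← map_mul, vM_mul]; rfl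

theorem sv_zero : sv ι 0 = 1 := by rw [sv, vM_vals.1, map_one]

theorem sv_sq (i : Fin 8) : sv ι i * sv ι i = 1 := by
  rw [sv_mul, show vAdd i i = 0 by revert i; decide, sv_zero]

/-- The Sylow subgroup. -/
def four : Subgroup G where
  carrier := Set.range (sv ι)
  mul_mem' := by rintro _ _ ⟨i, rfl⟩ ⟨j, rfl⟩; exact ⟨_, (sv_mul ι i j).symm⟩
  one_mem' := ⟨0, sv_zero ι⟩
  inv_mem' := by rintro _ ⟨i, rfl⟩; exact ⟨i, eq_inv_of_mul_eq_one_left (sv_sq ι i)⟩

instance : IsMulCommutative (four ι) :=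
  ⟨⟨fun a b => by
    obtain ⟨_, i, rfl⟩ := a
    obtain ⟨_, j, rfl⟩ := b
    refine Subtype.ext ?_
    show sv ι i * sv ι j = sv ι j * sv ι i
    rw [sv_mul, sv_mul, show vAdd i j = vAdd j i by revert i j; decide]⟩⟩

theorem mem_four {g : G} : g ∈ four ι ↔ ∃ i, sv ι i = g := Iff.rfl

theorem sv_mem (i : Fin 8) : sv ι i ∈ four ι := ⟨i, rfl⟩

namespace Cent

variable {ι} (hc : Cent ι)
include hc

theorem sv_injective : Function.Injective (sv ι) := fun _ _ h => vM_inj _ _ (hc.inj h)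

theorem card_four : Nat.card (four ι) = 8 := by
  rw [← Nat.card_fin 8]
  exact (Nat.card_congr (Equiv.ofInjective _ hc.sv_injective)).symm

theorem t_sq : ι mT * ι mT = 1 := by rw [← map_mul, mT_rel.1, map_one]

theorem t_ne : ι mT ≠ 1 := fun h => mT_rel.2.1 (hc.inj (h.trans (map_one ι).symm))

theorem orderOf_t : orderOf (ι mT) = 2 :=
  orderOf_eq_prime (by rw [sq]; exact hc.t_sq) hc.t_ne

theorem exists_sylow [Finite G] : ∃ S : Sylow 2 G, (S : Subgroup G) = four ι := by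
  have hp : IsPGroup 2 (four ι) := IsPGroup.of_card (n := 3) hc.card_four
  obtain ⟨P, hP⟩ := hp.exists_le_sylow
  refine ⟨P, (SetLike.coe_injective (Set.eq_of_subset_of_ncard_le hP ?_ (Set.toFinite _))).symm⟩
  rw [← Nat.card_coe_set_eq, ← Nat.card_coe_set_eq, SetLike.coe_sort_coe, SetLike.coe_sort_coe, hc.card_four]
  obtain ⟨n, hn⟩ := P.2.exists_card_eq
  by_contra h
  rw [hn, not_le, show (8 : ℕ) = 2 ^ 3 by norm_num, Nat.pow_lt_pow_iff_right (by norm_num)] at h
  refine hc.sixteen (dvd_trans ?_ (Subgroup.card_subgroup_dvd_card (P : Subgroup G)))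
  rw [hn, show (16 : ℕ) = 2 ^ 4 by norm_num]
  exact pow_dvd_pow 2 h

/-- The Sylow subgroup is self-centralising. -/
theorem centralizer_four {g : G} (h : ∀ i, g * sv ι i = sv ι i * g) : g ∈ four ι := by
  obtain ⟨x, rfl⟩ := hc.full g (by have := h 1; rwa [sv, vM_vals.2.1] at this)
  obtain ⟨i, rfl⟩ := vM_centralizer x (hc.inj (by rw [map_mul, map_mul]; have := h 2; rwa [sv, vM_vals.2.2.1] at this))
    (hc.inj (by rw [map_mul, map_mul]; have := h 4; rwa [sv, vM_vals.2.2.2.2.1] at this))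
  exact sv_mem ι i

theorem mem_normalizer [Finite G] {g : G} (h : ∀ i, ∃ j, g * sv ι i * g⁻¹ = sv ι j) :
    g ∈ normalizer (four ι : Set G) := by
  rw [mem_normalizer_iff_map_conj_eq]
  refine Subgroup.eq_of_le_of_card_ge ?_ (by rw [card_map_of_injective (MulAut.conj g).injective])
  rintro _ ⟨_, ⟨i, rfl⟩, rfl⟩
  obtain ⟨j, e⟩ := h i
  exact ⟨j, e.symm⟩

theorem conj_sv {n : G} (hn : n ∈ normalizer (four ι : Set G)) (i : Fin 8) :
    ∃ j, n * sv ι i * n⁻¹ = sv ι j := by
  obtain ⟨j, e⟩ := (mem_normalizer_iff.1 hn _).1 (sv_mem ι i)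
  exact ⟨j, e.symm⟩

/-- The part of the normaliser in the centraliser of the involution. -/
theorem normalizer_inf [Finite G] {g : G} :
    (g ∈ normalizer (four ι : Set G) ∧ g * ι mT = ι mT * g) ↔
      ∃ (i : Fin 8) (l : Fin 3), ι (vM i * mA b0 ^ l.1) = g := by
  constructor
  · rintro ⟨hn, hg⟩
    obtain ⟨x, rfl⟩ := hc.full g hg
    obtain ⟨j, hj⟩ := hc.conj_sv hn 2
    obtain ⟨k, hk⟩ := hc.conj_sv hn 4
    obtain ⟨i, l, rfl⟩ := vM_normalizer x
      ⟨j, hc.inj (by rw [map_mul, map_mul, map_inv]; rw [sv, vM_vals.2.2.1] at hj; exact hj)⟩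
      ⟨k, hc.inj (by rw [map_mul, map_mul, map_inv]; rw [sv, vM_vals.2.2.2.2.1] at hk; exact hk)⟩
    exact ⟨i, l, rfl⟩
  · rintro ⟨i, l, rfl⟩
    refine ⟨hc.mem_normalizer fun j => ?_, ?_⟩
    · obtain ⟨k, hk⟩ := vM_mem_normalizer i j l
      exact ⟨k, by rw [sv, sv, ← map_inv, ← map_mul, ← map_mul, hk]⟩
    · rw [← map_mul, ← map_mul, mT_rel.2.2]

theorem card_normalizer_inf [Finite G] :
    Nat.card {g : G // g ∈ normalizer (four ι : Set G) ∧ g * ι mT = ι mT * g} = 24 := by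
  rw [show (24 : ℕ) = Nat.card (Fin 8 × Fin 3) by simp]
  symm
  refine Nat.card_congr (Equiv.ofBijective
    (fun q => ⟨ι (vM q.1 * mA b0 ^ q.2.1), hc.normalizer_inf.2 ⟨q.1, q.2, rfl⟩⟩) ⟨fun q q' h => ?_, fun g => ?_⟩)
  · obtain ⟨h1, h2⟩ := vM_b_inj _ _ _ _ (hc.inj (congrArg Subtype.val h))
    exact Prod.ext h1 h2
  · obtain ⟨i, l, e⟩ := hc.normalizer_inf.1 g.2
    exact ⟨(i, l), Subtype.ext e⟩

end Cent

end CfsgLib.Spor.J1Type
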