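import Cfsg.Agent.Lib.Spor.J1Type.Induced
import Cfsg.Agent.Lib.Char.PowTwist

/-!
# Groups of Janko's first type: the arithmetical system attached to the constituents
-/

set_option autoImplicit false
set_option linter.unusedSectionVars false
set_option maxRecDepth 10000

namespace CfsgLib.Spor.J1Type

open scoped ComplexConjugate
open Cfsg CfsgLib.Char CfsgLib.Char.Signed CfsgLib.Char.GramSearch CfsgLib.Invol.JTwo.Icosa

universe u

/-- The conjugate row. -/
def galRow (r : List ℤ) : List ℤ :=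
  [r.getD 0 0, r.getD 1 0, r.getD 2 0, r.getD 3 0 - r.getD 4 0, -(r.getD 4 0)]

/-- The exchange of the two classes of elements of order ten. -/
def swapC : Fin 5 → Fin 5 := ![0, 1, 2, 4, 3]

theorem rep_seven : ∀ c : Fin 5, ∃ k : M, k * repM (swapC c) * k⁻¹ = repM c ^ 7 := by decide +kernel

theorem val_swap : ∀ c : Fin 5, val 0 (swapC c) = val 0 c ∧ val 1 (swapC c) = val 1 c ∧
    val 2 (swapC c) = val 2 c - val 3 c ∧ val 3 (swapC c) = -val 3 c ∧ sizeM (swapC c) = sizeM c := by
  decide +kernel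

theorem swapC_swapC : ∀ c, swapC (swapC c) = c := by decide +kernel

theorem repM_pow : ∀ c : Fin 5, repM c ^ 30 = 1 := by decide +kernel

theorem galRow_ne (r : List ℤ) (j : Fin 5) (hj : r.getD j.1 0 ≠ 0) : galRow r ≠ [0, 0, 0, 0, 0] := by
  intro h
  simp only [galRow, List.cons.injEq, and_true] at h
  obtain ⟨h0, h1, h2, h3, h4⟩ := h
  fin_cases j
  · exact hj h0
  · exact hj h1
  · exact hj h2
  · refine hj ?_
    show r.getD 3 0 = 0
    omega
  · refine hj ?_
    show r.getD 4 0 = 0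
    omega

variable {G : Type u} [Group G] [Fintype G] {ι : M →* G}

/-- The degree of a signed irreducible as an integer. -/
noncomputable def dg (x : G → ℂ) : ℤ := ⌊(x 1).re⌋

theorem dg_eq {x : G → ℂ} {d : ℤ} (h : x 1 = d) : dg x = d := by simp [dg, h]

theorem comb_apply : ∀ (v : List ℤ) (l : List (G → ℂ)) (g : G),
    comb v l g = (List.zipWith (fun (a : ℤ) x => (a : ℂ) * x g) v l).sum
  | [], _, _ => by simp [comb]
  | _ :: _, [], _ => by simp [comb]
  | a :: v, x :: l, g => by
    simp only [comb, Pi.add_apply, Pi.smul_apply, smul_eq_mul, List.zipWith_cons_cons, List.sum_cons,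
      comb_apply v l g]

theorem qfun_zero (g : G) : qfun g (0 : G → ℂ) = 0 := by simp [qfun, classInner_zero_left]

theorem qfun_smul (g : G) (a : ℂ) (v : G → ℂ) : qfun g (a • v) = a * qfun g v := by
  have := Fintype.ofFinite (IrrCharacter G)
  simp only [qfun, finsum_eq_sum_of_fintype, Finset.mul_sum]
  exact Finset.sum_congr rfl fun χ _ => by rw [classInner_smul_left]; ring

theorem qfun_comb : ∀ (v : List ℤ) (l : List (G → ℂ)) (g : G), (∀ x ∈ l, Sg x) →
    qfun g (comb v l) = (List.zipWith (fun (a : ℤ) x => (a : ℂ) * (x g ^ 2 / x 1)) v l).sum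
  | [], _, g, _ => by simp [comb, qfun_zero]
  | _ :: _, [], g, _ => by simp [comb, qfun_zero]
  | a :: v, x :: l, g, h => by
    simp only [comb, List.zipWith_cons_cons, List.sum_cons]
    rw [qfun_add, qfun_smul, qfun_sg g (h x List.mem_cons_self),
      qfun_comb v l g fun y hy => h y (List.mem_cons_of_mem _ hy)]

theorem sum_map_cast {α : Type*} (l : List α) (f : α → ℚ) :
    (((l.map f).sum : ℚ) : ℂ) = (l.map fun a => (f a : ℂ)).sum := by
  induction l with
  | nil => simp
  | cons a l ih => simp [ih]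

/-- The arithmetical system. -/
structure Sys (m : ℤ) (L : List (List ℤ × ℤ)) : Prop where
  odd : m % 2 = 1
  pos : 0 < m
  each : ∀ p ∈ L, p.2 ≠ 0 ∧ (p.2 - rowT p.1) % 8 = 0 ∧ p.2 ∣ m * rowT p.1 ∧ p.2 ∣ 20 * (m * rowY p.1) ∧
    (p.1.getD 0 0 ≠ 0 → p.2 = p.1.getD 0 0)
  lin : ∀ j : Fin 4, (L.map fun p => p.1.getD (j.1 + 1) 0 * p.2).sum = 0
  quad : ∀ j : Fin 4, (L.map fun p => (p.1.getD (j.1 + 1) 0 : ℚ) * (rowT p.1 : ℚ) ^ 2 / (p.2 : ℚ)).sum =
    (pairS j : ℚ) / (m : ℚ)
  gal : ∀ p ∈ L, (∃ j : Fin 5, p.1.getD j.1 0 ≠ 0) →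
    (galRow p.1, p.2) ∈ L ∨ ((galRow p.1).map (-·), -p.2) ∈ L

namespace Cent

variable (hc : Cent ι)

/-- The family of constituents. -/
structure Constituents (cs : List (List ℤ)) (l : List (G → ℂ)) : Prop where
  run : cs ∈ run gramFn 5
  orth : Orth l
  rows : cs = l.map hc.rowOf
  expand : ∀ i < 5, Fv hc.toM i = comb (row i cs) l

include hc

theorem exists_constituents [IsSimpleGroup G] : ∃ cs l, hc.Constituents cs l := by
  obtain ⟨cs, hcs, l, hl, hlen, hclen, hrow⟩ := exists_run gramFn (Fv hc.toM) 5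
    (fun i hi => ⟨hc.Fv_gen i, (show ∀ i : Fin 5, gramFn i.1 i.1 ≤ 4 by decide) ⟨i, hi⟩⟩) hc.iq_Fv
  refine ⟨cs, l, hcs, hl, ?_, hrow⟩
  have key : ∀ i < 5, (l.map fun x => iq (Fv hc.toM i) x) = row i cs := by
    intro i hi
    conv_rhs => rw [← map_iq_comb hl (row i cs) (by simp [row, hlen])]
    refine List.map_congr_left fun x hx => ?_
    rw [hrow i hi, iq_comm (comb_gen _ (orth_gen hl)) (orth_gen hl x hx)]
  refine List.ext_getElem (by rw [List.length_map, hlen]) fun n h1 h2 => ?_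
  rw [List.getElem_map]
  refine List.ext_getElem (by simp [rowOf, hclen _ (List.getElem_mem h1)]) fun i h3 h4 => ?_
  have hi : i < 5 := by simpa [rowOf] using h4
  have hn : n < l.length := by omega
  have e := congrArg (fun w : List ℤ => w.getD n 0) (key i hi)
  simp only [row] at e
  rw [List.getD_eq_getElem _ _ (by simpa using hn), List.getD_eq_getElem _ _ (by simpa using h1),
    List.getElem_map, List.getElem_map, List.getD_eq_getElem _ _ h3] at e
  rw [← e]
  simp [rowOf]

/-- A signed irreducible with a nonzero row is, up to sign, one of the constituents. -/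
theorem Constituents.exists_mem {cs : List (List ℤ)} {l : List (G → ℂ)} (K : hc.Constituents cs l)
    {x : G → ℂ} (hx : Sg x) {i : ℕ} (hi : i < 5) (hne : iq (Fv hc.toM i) x ≠ 0) : x ∈ l ∨ -x ∈ l := by
  rw [K.expand i hi, iq_comb_left _ (orth_gen K.orth) hx.gen] at hne
  by_contra hno
  push Not at hno
  refine hne (dot_eq_zero _ _ fun b hb => ?_)
  obtain ⟨y, hy, rfl⟩ := List.mem_map.1 hb
  rcases (K.orth.1 y hy).iq_cases hx with h | ⟨-, h⟩ | ⟨-, h⟩
  · exact h
  · exact absurd (h ▸ hy) hno.1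
  · exact absurd (h ▸ hy) hno.2

theorem rowOf_neg {x : G → ℂ} (hx : Sg x) : hc.rowOf (-x) = (hc.rowOf x).map (-·) := by
  simp only [rowOf, List.map_map]
  exact List.map_congr_left fun i _ => iq_neg_right (hc.Fv_gen i) hx.gen

/-- A signed irreducible has a twist with the conjugate row. -/
theorem exists_twisted [IsSimpleGroup G] {x : G → ℂ} (hx : Sg x) :
    ∃ k : ℕ, k % 30 = 7 ∧ Sg (fun g => x (g ^ k)) ∧ hc.rowOf (fun g => x (g ^ k)) = galRow (hc.rowOf x) ∧
      ∀ c, (fun g => x (g ^ k)) (ι (repM c)) = x (ι (repM (swapC c))) := by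
  classical
  set n := ordCompl[5] (Nat.card G) with hn
  have h5 : ¬ 5 ∣ n := Nat.not_dvd_ordCompl (by norm_num) Nat.card_pos.ne'
  have hcop : Nat.Coprime (6 * n) 5 := by
    rw [Nat.coprime_mul_iff_left]
    exact ⟨by norm_num, ((Nat.Prime.coprime_iff_not_dvd (by norm_num)).2 h5).symm⟩
  obtain ⟨k, hk1, hk2⟩ := Nat.chineseRemainder hcop 1 2
  have hk5 : k % 5 = 2 := hk2
  have hk6 : k % 6 = 1 := hk1.of_mul_right n
  have hkn : k ≡ 1 [MOD n] := hk1.of_mul_left 6
  have hm : Nat.Coprime (Nat.card G) k := by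
    rw [← Nat.ordProj_mul_ordCompl_eq_self (Nat.card G) 5, ← hn]
    refine Nat.Coprime.mul_left (Nat.Coprime.pow_left _ ((Nat.Prime.coprime_iff_not_dvd (by norm_num)).2 ?_)) ?_
    · intro h
      omega
    · refine Nat.Coprime.symm ?_
      rw [Nat.Coprime, hkn.gcd_eq]
      simp
  have h30 : k % 30 = 7 := by omega
  refine ⟨k, ?_⟩
  set x' : G → ℂ := fun g => x (g ^ k) with hx'
  have hs : Sg x' := ⟨isGeneralizedCharacter_powMap hm hx.gen, (classInner_powMap hm x x).trans hx.2⟩
  have hxc : IsClassFunction G x := isClassFunction_of_isGeneralized hx.gen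
  have hval : ∀ c, x' (ι (repM c)) = x (ι (repM (swapC c))) := by
    intro c
    obtain ⟨z, hz⟩ := rep_seven c
    show x (ι (repM c) ^ k) = _
    rw [← map_pow, ← Nat.mod_add_div k 30, h30, pow_add, pow_mul, repM_pow, one_pow, mul_one, ← hz, map_mul,
      map_mul, map_inv, hxc]
  refine ⟨h30, hs, ?_, hval⟩
  set U : Fin 5 → ℂ := fun c => (sizeM c : ℂ) * conj (x (ι (repM c))) with hU
  have hrow : ∀ i : Fin 4, (120 * iq (Fv hc.toM (i.1 + 1)) x' : ℂ) =
      ∑ c : Fin 5, U c * evR (val i (swapC c)) := by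
    intro i
    rw [hc.row_formula hs i]
    refine Fintype.sum_bijective swapC (Function.Involutive.bijective swapC_swapC) _ _ fun c => ?_
    rw [hval, hU, swapC_swapC]
    simp only [(val_swap c).2.2.2.2]
    ring
  have hrow0 : ∀ i : Fin 4, (120 * iq (Fv hc.toM (i.1 + 1)) x : ℂ) = ∑ c : Fin 5, U c * evR (val i c) := by
    intro i
    rw [hc.row_formula hx i]
    exact Finset.sum_congr rfl fun c _ => by rw [hU]; ring
  have hz : iq (Fv hc.toM 0) x' = iq (Fv hc.toM 0) x := by
    have e : Fv hc.toM 0 = fun _ => 1 := if_pos rfl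
    rw [e, iq, iq]
    congr 2
    exact classInner_powMap hm (fun _ => 1) x
  have key : ∀ i : Fin 4, ∀ z : ℤ, (120 * z : ℂ) = ∑ c : Fin 5, U c * evR (val i (swapC c)) →
      iq (Fv hc.toM (i.1 + 1)) x' = z := by
    intro i z hz'
    have := (hrow i).trans hz'.symm
    have : (iq (Fv hc.toM (i.1 + 1)) x' : ℂ) = (z : ℂ) := by linear_combination (1/120 : ℂ) * this
    exact_mod_cast this
  have k0 : iq (Fv hc.toM 1) x' = iq (Fv hc.toM 1) x :=
    key 0 _ ((hrow0 0).trans (Finset.sum_congr rfl fun c _ => by rw [(val_swap c).1]))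
  have k1 : iq (Fv hc.toM 2) x' = iq (Fv hc.toM 2) x :=
    key 1 _ ((hrow0 1).trans (Finset.sum_congr rfl fun c _ => by rw [(val_swap c).2.1]))
  have k3 : iq (Fv hc.toM 4) x' = -iq (Fv hc.toM 4) x := by
    refine key 3 _ ?_
    rw [show (∑ c : Fin 5, U c * evR (val 3 (swapC c))) = -∑ c : Fin 5, U c * evR (val 3 c) by
      rw [← Finset.sum_neg_distrib]
      exact Finset.sum_congr rfl fun c _ => by rw [(val_swap c).2.2.2.1, map_neg]; ring, ← hrow0]
    push_cast
    ring_nf
    rfl
  have k2 : iq (Fv hc.toM 3) x' = iq (Fv hc.toM 3) x - iq (Fv hc.toM 4) x := by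
    refine key 2 _ ?_
    rw [show (∑ c : Fin 5, U c * evR (val 2 (swapC c))) =
      (∑ c : Fin 5, U c * evR (val 2 c)) - ∑ c : Fin 5, U c * evR (val 3 c) by
      rw [← Finset.sum_sub_distrib]
      exact Finset.sum_congr rfl fun c _ => by rw [(val_swap c).2.2.1, map_sub]; ring, ← hrow0, ← hrow0]
    push_cast
    ring_nf
    rfl
  simp only [rowOf, galRow, List.range_succ, List.range_zero, List.nil_append, List.cons_append, List.map_cons,
    List.map_nil, List.getD_cons_zero, List.getD_cons_succ, hz, k0, k1, k2, k3]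

/-- The system holds. -/
theorem Constituents.sys [IsSimpleGroup G] {cs : List (List ℤ)} {l : List (G → ℂ)} (K : hc.Constituents cs l) :
    Sys (Nat.card G / 120 : ℕ) (l.map fun x => (hc.rowOf x, dg x)) := by
  classical
  have hg120 : Nat.card G / 120 = Nat.card {x : G // IsConj (ι mT) x} := by
    have := hc.card_class
    omega
  have hfacts : ∀ x ∈ l, x (ι mT) = (rowT (hc.rowOf x) : ℂ) ∧ x 1 = (dg x : ℂ) ∧
      (dg x ≠ 0 ∧ (dg x - rowT (hc.rowOf x)) % 8 = 0 ∧
      dg x ∣ (Nat.card G / 120 : ℕ) * rowT (hc.rowOf x) ∧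
      dg x ∣ 20 * ((Nat.card G / 120 : ℕ) * rowY (hc.rowOf x)) ∧
      ((hc.rowOf x).getD 0 0 ≠ 0 → dg x = (hc.rowOf x).getD 0 0)) := by
    intro x hx
    obtain ⟨h1, d, hd, h2⟩ := hc.sg_facts (K.orth.1 x hx) (r := hc.rowOf x) rfl
    rw [← dg_eq hd] at h2 hd
    exact ⟨h1, hd, h2⟩
  have hodd : (Nat.card G / 120) % 2 = 1 := by
    by_contra h
    refine hc.sixteen ?_
    have := hc.card_class
    omega
  have hrowi : ∀ i, row i cs = l.map fun x => (hc.rowOf x).getD i 0 := by
    intro i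
    rw [K.rows, row, List.map_map]
    rfl
  have hz : ∀ (i : ℕ) (f : (G → ℂ) → ℂ), (List.zipWith (fun (a : ℤ) x => (a : ℂ) * f x) (row i cs) l).sum =
      (l.map fun x => ((hc.rowOf x).getD i 0 : ℂ) * f x).sum := by
    intro i f
    rw [hrowi]
    congr 1
    clear K hfacts hrowi
    induction l with
    | nil => simp
    | cons a l ih => simp only [List.map_cons, List.zipWith_cons_cons, ih]
  have hFv : ∀ j : Fin 4, Fv hc.toM (j.1 + 1) = indFun ι.range (fun z => fC j (hc.toM z)) := by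
    intro j
    rw [Fv, if_neg (by omega)]
    congr 2
    funext z
    congr 2
    exact Fin.ext (by simp [Fin.ofNat, Nat.mod_eq_of_lt j.2])
  refine ⟨by omega, by omega, ?_, ?_, ?_, ?_⟩
  · intro p hp
    obtain ⟨x, hx, rfl⟩ := List.mem_map.1 hp
    exact (hfacts x hx).2.2
  · intro j
    have e1 : Fv hc.toM (j.1 + 1) 1 = 0 := by
      rw [hFv, indFun_one]
      have : fM j 1 = 0 := if_pos rfl
      rw [map_one, fC, this, map_zero, mul_zero]
    rw [K.expand _ (by omega), comb_apply, hz _ fun x => x 1] at e1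
    have e2 : (l.map fun x => (((hc.rowOf x).getD (j.1 + 1) 0 * dg x : ℤ) : ℂ)).sum = 0 := by
      refine Eq.trans (congrArg List.sum (List.map_congr_left fun x hx => ?_)) e1
      rw [(hfacts x hx).2.1]
      push_cast
      rfl
    rw [List.map_map]
    have e3 : (((l.map fun x => (hc.rowOf x).getD (j.1 + 1) 0 * dg x).sum : ℤ) : ℂ) = 0 := by
      rw [Int.cast_list_sum, List.map_map]
      exact e2
    exact_mod_cast e3
  · intro j
    have e1 := hc.qfun_ind j
    rw [← hFv, K.expand _ (by omega), qfun_comb _ _ _ K.orth.1, hz _ fun x => x (ι mT) ^ 2 / x 1] at e1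
    rw [List.map_map]
    apply Rat.cast_injective (α := ℂ)
    rw [sum_map_cast]
    refine Eq.trans (congrArg List.sum (List.map_congr_left fun x hx => ?_)) (e1.trans ?_)
    · rw [(hfacts x hx).1, (hfacts x hx).2.1]
      simp only [Function.comp]
      push_cast
      ring
    · rw [hg120, ← hc.card_class]
      push_cast
      rw [← div_div]
      field_simp
  · intro p hp hne
    obtain ⟨x, hx, rfl⟩ := List.mem_map.1 hp
    obtain ⟨j, hj⟩ := hne
    obtain ⟨k, -, hs, hr, -⟩ := hc.exists_twisted (K.orth.1 x hx)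
    set x' : G → ℂ := fun g => x (g ^ k) with hx'
    have hd : dg x' = dg x := by simp [dg, hx']
    have hex : ∃ i < 5, iq (Fv hc.toM i) x' ≠ 0 := by
      by_contra hno
      push Not at hno
      have h0 : hc.rowOf x' = [0, 0, 0, 0, 0] := by
        simp [rowOf, List.range_succ, hno 0 (by norm_num), hno 1 (by norm_num), hno 2 (by norm_num),
          hno 3 (by norm_num), hno 4 (by norm_num)]
      rw [hr] at h0
      exact galRow_ne (hc.rowOf x) j hj h0
    obtain ⟨i, hi, hne⟩ := hex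
    rcases Constituents.exists_mem hc K hs hi hne with h | h
    · left
      exact List.mem_map.2 ⟨x', h, by rw [hr, hd]⟩
    · right
      refine List.mem_map.2 ⟨-x', h, ?_⟩
      rw [hc.rowOf_neg hs, hr]
      congr 1
      rw [← hd]
      obtain ⟨n, -, hn⟩ := hs.apply_one_int
      rw [dg_eq hn, dg_eq (d := -n) (by rw [Pi.neg_apply, hn]; push_cast; rfl)]

end Cent

end CfsgLib.Spor.J1Type
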